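import Groth.Agent.AlbCurve.Div
import Groth.Agent.PicRep.IsJac

/-!
# The Abel map and the sum map on the points of the Jacobian
-/

set_option autoImplicit false
set_option maxHeartbeats 1600000
set_option linter.style.haveILetI false
set_option linter.unusedSectionVars false
set_option backward.isDefEq.respectTransparency false
set_option backward.isDefEq.respectTransparency.types false

universe u

open CategoryTheory CategoryTheory.Limits AlgebraicGeometry TopologicalSpace Opposite MonoidalCategory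
  CartesianMonoidalCategory MonObj

noncomputable section

namespace Groth.Agent.AlbCurve

open Groth.Agent Groth.Agent.PicRep
open Groth.Agent.JacVarLib (Pc pullPc pullPc_val pullPc_comp ext_val out cl_out isInvertible_out dg hz Pt)
open Groth.Agent.GenusOneX (sct sct_proj pt comp_pt idCl isInvertible_ker)
open scoped Groth.Agent.H23.PicMul

attribute [local instance] Jacobian.curveOver GenusOneX.fibreOver GenusOneX.flat_of_family GenusOneX.lfp_of_family

section General

variable {X S : Scheme.{u}} (f : X ⟶ S) [IsProper f] [SmoothOfRelativeDimension 1 f] [GeometricallyConnected f]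
  (σ : S ⟶ X) (hσ : σ ≫ f = 𝟙 S)

/-- Rigidification as a homomorphism. -/
def rhoHom (T : Over S) : Pc (PicF.XT f T) →* Pc (PicF.XT f T) :=
  MonoidHom.mk' (rho f σ hσ) fun v w => by
    rw [rho, rho, rho, map_mul, map_mul, mul_inv, _root_.mul_mul_mul_comm]

theorem cl_fst_section (T : Over S) :
    PicF.pullCl (pullback.fst f T.hom) (PicF.cl (ClSub.idealMod σ.ker)) = (ptPc (pt f σ hσ T)).1.val := by
  have hc : σ.ker.comap (pullback.fst f T.hom) = (sct f (pt f σ hσ T)).ker :=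
    GenusOneX.comap_ker_section (IsPullback.of_hasPullback f T.hom) hσ (sct_proj f _) (pullback.lift_fst _ _ _)
  have hi := isInvertible_ker f hσ
  have hi' := isInvertible_ker (PicF.XTproj f T) (sct_proj f (pt f σ hσ T))
  obtain ⟨e⟩ := CurveAlgEqLib.nonempty_pullback_idealMod (pullback.fst f T.hom) hi (J := σ.ker) (hc ▸ hi')
  refine Eq.trans ?_ (toPc_val _ _).symm
  exact H23.PicMul.cl_eq_iff.2 ⟨e ≪≫ eqToIso (by rw [hc])⟩

variable {f σ hσ} {J : Over S}

/-- The class of the Abel map. -/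
theorem toPc_ajFamily {L : (PicF.XT f (Over.mk f)).Modules} (hL : Jac.IsAJFamilyAt f σ L) :
    toPc (PicF.cl L) ⟨L, rfl, hL.1⟩ = ptPc (pt f σ hσ (Over.mk f)) * (ptPc (𝟙 (Over.mk f)))⁻¹ := by
  obtain ⟨hi, ⟨e⟩⟩ := hL
  rw [eq_mul_inv_iff_mul_eq]
  refine ext_val ?_
  rw [← cl_fst_section, Subgroup.coe_mul, Units.val_mul, toPc_val, ptPc, toPc_val]
  exact (H23.PicMul.cl_tensor _ _).symm.trans (H23.PicMul.cl_eq_iff.2 ⟨e⟩)

variable (r : (funct0 f σ hσ).RepresentableBy J)

/-- The class of the Abel map at a point. -/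
theorem val0_abel {ψ : (ModFun.PicDeg f 0).Hom ⊤ J}
    (hψ : ∀ (T : Over S) (E : (PicF.XT f T).Modules) (hT : (⊤ : ObjectProperty (Over S)) T)
      (h : (ModFun.PicDeg f 0).ok T E), ψ.app T E hT h = phi0 r T (PicF.cl E))
    {j : Over.mk f ⟶ J} (hj : Jac.IsAbelJacobiAt f σ ψ j) {T : Over S} (x : T ⟶ Over.mk f) :
    val0 (r.homEquiv (x ≫ j)) = rho f σ hσ (ptPc (pt f σ hσ T) * (ptPc x)⁻¹) := by
  obtain ⟨hP, L, hok, hL, rfl⟩ := hj
  rw [hψ, r.homEquiv_comp, val0_map, val0_phi0_cl r hok, toPc_ajFamily hL, pull_rho, map_mul, map_inv, pull_ptPc,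
    pull_ptPc, comp_pt, Category.comp_id]

variable [GrpObj J] [IsCommMonObj J]
  (hmul : ∀ (T : Over S) (a b : T ⟶ J), val0 (r.homEquiv (a * b)) = val0 (r.homEquiv a) * val0 (r.homEquiv b))

/-- The class of a point as a homomorphism. -/
def valHom (T : Over S) : (T ⟶ J) →* Pc (PicF.XT f T) :=
  MonoidHom.mk' (fun a => val0 (r.homEquiv a)) (hmul T)

theorem valHom_injective (T : Over S) : Function.Injective (valHom r hmul T) := fun _ _ h =>
  r.homEquiv.injective (val0_injective h)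

variable {j : Over.mk f ⟶ J}
  (hj : ∀ (T : Over S) (x : T ⟶ Over.mk f), val0 (r.homEquiv (x ≫ j)) = rho f σ hσ (ptPc (pt f σ hσ T) * (ptPc x)⁻¹))

include hj in
/-- The class of a sum of points. -/
theorem valHom_prod {T : Over S} {n : ℕ} (x : Fin n → (T ⟶ Over.mk f)) :
    valHom r hmul T (∏ i, x i ≫ j) = rho f σ hσ (ptPc (pt f σ hσ T) ^ n * divC x) := by
  rw [map_prod]
  refine (Finset.prod_congr rfl (g := fun i => rhoHom f σ hσ T (ptPc (pt f σ hσ T) * (ptPc (x i))⁻¹))
    fun i _ => hj T (x i)).trans ?_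
  rw [← map_prod, Finset.prod_mul_distrib, Finset.prod_const, Finset.card_univ, Fintype.card_fin, Finset.prod_inv_distrib]
  rfl

include hmul hj in
theorem pt_abel (T : Over S) : pt f σ hσ T ≫ j = 1 := by
  refine valHom_injective r hmul T ?_
  rw [map_one]
  refine (hj T _).trans ?_
  rw [mul_inv_cancel]
  exact map_one (rhoHom f σ hσ T)

include hmul hj in
/-- Tuples with the same sum have linearly equivalent divisors. -/
theorem exists_divC_eq {T : Over S} {n : ℕ} {x y : Fin n → (T ⟶ Over.mk f)}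
    (h : ∏ i, x i ≫ j = ∏ i, y i ≫ j) :
    ∃ m : Pc T.left, divC y = divC x * pullPc (PicF.XTproj f T) m := by
  have h1 := congrArg (valHom r hmul T) h
  rw [valHom_prod r hmul hj, valHom_prod r hmul hj] at h1
  obtain ⟨m, hm⟩ := rho_eq_iff.1 h1.symm
  refine ⟨m, mul_left_cancel (a := ptPc (pt f σ hσ T) ^ n) ?_⟩
  rw [hm, _root_.mul_assoc]

theorem comp_prod {T T' : Over S} (a : T' ⟶ T) {I : Type*} [Fintype I] (z : I → (T ⟶ J)) :
    a ≫ ∏ i, z i = ∏ i, a ≫ z i :=
  map_prod (MonoidHom.mk' (fun b : T ⟶ J => a ≫ b) fun b c => MonObj.comp_mul a b c) z Finset.univ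

theorem prod_comp {T : Over S} {A : Over S} [GrpObj A] [IsCommMonObj A] (χ : J ⟶ A) [IsMonHom χ] {I : Type*}
    [Fintype I] (z : I → (T ⟶ J)) : (∏ i, z i) ≫ χ = ∏ i, z i ≫ χ :=
  map_prod (MonoidHom.mk' (fun b : T ⟶ J => b ≫ χ) fun b c => MonObj.mul_comp b c χ) z Finset.univ

include hmul hj in
/-- Two tuples of distinct points with a good divisor and the same image have the same image in any
commutative group. -/
theorem prod_eq_of_prod_eq {A : Over S} [GrpObj A] [IsCommMonObj A] (φ : Over.mk f ⟶ A) {T : Over S} {n : ℕ}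
    {x y : Fin (n + 1) → (T ⟶ Over.mk f)} (hx : ∀ t, Good (PicF.XTproj f T) (divC x) t ∧ Distinct x t)
    (hy : ∀ t, Distinct y t) (h : ∏ i, x i ≫ j = ∏ i, y i ≫ j) : ∏ i, x i ≫ φ = ∏ i, y i ≫ φ := by
  obtain ⟨m, hm⟩ := exists_divC_eq r hmul hj h
  have hI := divI_eq (fun t => (hx t).1) hm
  have key : ∀ t : T.left, ∃ V : T.left.Opens, t ∈ V ∧
      V.ι ≫ (∏ i, x i ≫ φ).left = V.ι ≫ (∏ i, y i ≫ φ).left := by
    intro t
    obtain ⟨V, π, ht, hV⟩ := exists_open_match (hx t).2 (hy t) hI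
    refine ⟨V, ht, ?_⟩
    let a : Over.mk (V.ι ≫ T.hom) ⟶ T := Over.homMk V.ι rfl
    refine congrArg CommaMorphism.left (?_ : a ≫ (∏ i, x i ≫ φ) = a ≫ ∏ i, y i ≫ φ)
    rw [comp_prod, comp_prod]
    have e : ∀ i, a ≫ y i ≫ φ = a ≫ x (π i) ≫ φ := fun i => by
      rw [← Category.assoc, ← Category.assoc, show a ≫ y i = a ≫ x (π i) from Over.OverMorphism.ext (hV i)]
    rw [Finset.prod_congr rfl fun i _ => e i]
    exact (Equiv.prod_comp π fun i => a ≫ x i ≫ φ).symm
  choose V ht hV using key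
  refine Over.OverMorphism.ext ((Scheme.openCoverOfIsOpenCover T.left V (by
    rw [TopologicalSpace.IsOpenCover, eq_top_iff]
    exact fun t _ => Opens.mem_iSup.2 ⟨t, ht t⟩)).hom_ext _ _ fun t => hV t)

end General

section Field

variable {k : Type u} [Field k] {C : Scheme.{u}} [C.Over (Spec (CommRingCat.of k))]
  [IsProper (C ↘ Spec (CommRingCat.of k))] [SmoothOfRelativeDimension 1 (C ↘ Spec (CommRingCat.of k))]
  [GeometricallyConnected (C ↘ Spec (CommRingCat.of k))]
  {σ : Spec (CommRingCat.of k) ⟶ C} {hσ : σ ≫ C ↘ Spec (CommRingCat.of k) = 𝟙 _}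

theorem dg_ptPc {Ω : Type u} [Field Ω] [IsAlgClosed Ω] (τ : Spec (CommRingCat.of Ω) ⟶ Spec (CommRingCat.of k))
    (Q : Over.mk τ ⟶ Over.mk (C ↘ Spec (CommRingCat.of k))) : dg Ω (ptPc Q) = -1 := by
  let f := C ↘ Spec (CommRingCat.of k)
  haveI := CurveCohLib.isNoetherian_of_proper (k := Ω) (X := PicF.XT f (Over.mk τ))
  obtain ⟨p, hp, hQ⟩ := Jacobian.exists_ptMod_eq f τ Q
  obtain ⟨e⟩ := H23.PicMul.cl_eq_iff.1 (show PicF.cl (out (ptPc Q)) = PicF.cl (CurvePoint.ptMod p hp) by
    rw [cl_out, ptPc_val, hQ])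
  exact (CurveRR.deg_congr Ω e 1).trans (CurvePoint.deg_ptMod p hp Ω)

include σ hσ in
/-- There is a tuple of points with a good divisor over an algebraically closed field. -/
theorem exists_good_tuple (hdim : topologicalKrullDim C = 1) {Ω : Type u} [Field Ω] [IsAlgClosed Ω]
    (τ : Spec (CommRingCat.of Ω) ⟶ Spec (CommRingCat.of k)) :
    ∃ P : Fin (Curv2.genus k C) → (Over.mk τ ⟶ Over.mk (C ↘ Spec (CommRingCat.of k))),
      Good (PicF.XTproj (C ↘ Spec (CommRingCat.of k)) (Over.mk τ)) (divC P) (IsLocalRing.closedPoint Ω) := by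
  classical
  let f := C ↘ Spec (CommRingCat.of k)
  haveI : Smooth f := SmoothOfRelativeDimension.smooth (n := 1) _
  haveI := CurveBC.isIntegral_of_h0 k C (CurveBC.finrank_h0_of_geometricallyConnected k C)
  have hdimC := Jacobian.curve_dim f τ
  have hgen := genus_geom (X := C) τ
  haveI := CurveCohLib.isNoetherian_of_proper (k := Ω) (X := (PicF.XT f (Over.mk τ)))
  let gg := Curv2.genus k C
  let q₀ := ptPc (f := f) (pt f σ hσ (Over.mk τ))
  let w : Pc (PicF.XT f (Over.mk τ)) := q₀⁻¹ ^ (2 * gg)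
  have hw : dg Ω w = (gg + gg : ℕ) := by
    rw [JacVarLib.dg_pow Ω hdimC, JacVarLib.dg_inv Ω hdimC, dg_ptPc]
    push_cast; ring
  have hh : hz Ω w = gg + 1 := by
    have h1 : Subsingleton (Coh.HH (PicF.XT f (Over.mk τ)) (out w) 1) :=
      CurveDuality.subsingleton_HH_one_of_deg_ge Ω hdimC (isInvertible_out w) (by
        have h0 := CurveCohLib.Nonspecial.euler_structure Ω hdimC (CurveNondeg.h0_structure (X := (PicF.XT f (Over.mk τ))) Ω)
        have hd : Curv2.deg Ω (PicF.XT f (Over.mk τ)) (out w) 1 = (gg + gg : ℕ) := hw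
        rw [hd, h0, hgen]
        push_cast
        omega)
    have h2 := CurveRR.euler_eq_h0_sub_h1 Ω hdimC.le (CurveDeg.isCoh_of_isInvertible (isInvertible_out w)).1
    rw [euler_out f τ w, hw, hgen, Module.finrank_zero_of_subsingleton (M := Coh.HH (PicF.XT f (Over.mk τ)) (out w) 1)] at h2
    unfold JacVarLib.hz
    push_cast at h2
    omega
  haveI : LocallyOfFiniteType ((PicF.XT f (Over.mk τ)) ↘ Spec (CommRingCat.of Ω)) := inferInstance
  let e := (infinite_closedPoints (PicF.XT f (Over.mk τ)) ((PicF.XT f (Over.mk τ)) ↘ Spec (CommRingCat.of Ω)) hdimC).natEmbedding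
  let Q : Fin (2 * gg + 1) → Pt (PicF.XT f (Over.mk τ)) := fun i => ⟨(e i.1).1, (e i.1).2⟩
  have hQ : Function.Injective Q := fun i i' h =>
    Fin.ext (e.injective (Subtype.ext (congrArg Subtype.val h)))
  obtain ⟨i, hd', hh'⟩ := exists_drop_list Ω hdimC Q hQ gg w (by rw [hw, hgen]; push_cast; rfl) hh
    (by rw [hgen]; omega)
  set v := w / ∏ t, JacVarLib.O Ω hdimC (Q (i t)) with hv
  have hgood := (good_iff f τ v (IsLocalRing.closedPoint Ω)).2 (euler_of_hz Ω hdimC hd' hh')
  have hc0 : v * q₀ ^ gg ∈ PZ f (Over.mk τ) := by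
    refine mem_PZ.2 fun t => (deg_eq_dg f τ _ t).trans ?_
    rw [JacVarLib.dg_mul Ω hdimC, hd', hgen, JacVarLib.dg_pow Ω hdimC, dg_ptPc]
    ring
  obtain ⟨P, hP⟩ := Jacobian.exists_points_cl f τ (isPicZeroCl_of_mem hc0) (pt f σ hσ (Over.mk τ)) (N := gg) (by
    rw [CurveCohLib.Nonspecial.euler_structure Ω hdimC (CurveNondeg.h0_structure (X := (PicF.XT f (Over.mk τ))) Ω), hgen]
    omega)
  refine ⟨P, ?_⟩
  have hvP : v = divC P := by
    have h1 : v * q₀ ^ gg = divC P * q₀ ^ gg := by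
      refine ext_val (hP.trans ?_)
      have h2 : (divC P * q₀ ^ gg).1 = ∏ i, idCl f (pt f σ hσ (Over.mk τ)) * (idCl f (P i))⁻¹ := by
        rw [Finset.prod_mul_distrib, Finset.prod_const, Finset.card_univ, Fintype.card_fin, Finset.prod_inv_distrib,
          mul_comm, Subgroup.coe_mul, SubgroupClass.coe_pow, divC, InvMemClass.coe_inv, SubmonoidClass.coe_finset_prod]
        simp only [ptPc_val]
        rfl
      rw [h2]
    exact mul_right_cancel h1
  rwa [← hvP]

variable {J : Over (Spec (CommRingCat.of k))} [GrpObj J] [IsCommMonObj J]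
  (r : (funct0 (C ↘ Spec (CommRingCat.of k)) σ hσ).RepresentableBy J)
  (hmul : ∀ (T : Over (Spec (CommRingCat.of k))) (a b : T ⟶ J),
    val0 (r.homEquiv (a * b)) = val0 (r.homEquiv a) * val0 (r.homEquiv b))
  {j : Over.mk (C ↘ Spec (CommRingCat.of k)) ⟶ J}
  (hj : ∀ (T : Over (Spec (CommRingCat.of k))) (x : T ⟶ Over.mk (C ↘ Spec (CommRingCat.of k))),
    val0 (r.homEquiv (x ≫ j)) =
      rho (C ↘ Spec (CommRingCat.of k)) σ hσ (ptPc (pt (C ↘ Spec (CommRingCat.of k)) σ hσ T) * (ptPc x)⁻¹))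
  (hdim : topologicalKrullDim C = 1)

include hmul hj hdim in
/-- Every geometric point of the Jacobian is a sum of `genus` points of the curve. -/
theorem exists_sum_eq {Ω : Type u} [Field Ω] [IsAlgClosed Ω]
    (τ : Spec (CommRingCat.of Ω) ⟶ Spec (CommRingCat.of k)) (a : Over.mk τ ⟶ J) :
    ∃ P : Fin (Curv2.genus k C) → (Over.mk τ ⟶ Over.mk (C ↘ Spec (CommRingCat.of k))), ∏ i, P i ≫ j = a := by
  let f := C ↘ Spec (CommRingCat.of k)
  haveI : Smooth f := SmoothOfRelativeDimension.smooth (n := 1) _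
  haveI := CurveBC.isIntegral_of_h0 k C (CurveBC.finrank_h0_of_geometricallyConnected k C)
  have hdimC := Jacobian.curve_dim f τ
  haveI := CurveCohLib.isNoetherian_of_proper (k := Ω) (X := PicF.XT f (Over.mk τ))
  have hv := val0_mem (r.homEquiv a)
  obtain ⟨P, hP⟩ := Jacobian.exists_points_cl f τ (isPicZeroCl_of_mem hv.2) (pt f σ hσ (Over.mk τ))
    (N := Curv2.genus k C) (by
      rw [CurveCohLib.Nonspecial.euler_structure Ω hdimC (CurveNondeg.h0_structure (X := PicF.XT f (Over.mk τ)) Ω),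
        genus_geom (X := C) τ]
      omega)
  refine ⟨P, valHom_injective r hmul _ ?_⟩
  rw [valHom_prod r hmul hj]
  refine Eq.trans (congrArg (rho f σ hσ) (ext_val (Eq.trans ?_ hP.symm))) (rho_eq_self hv.1)
  rw [Finset.prod_mul_distrib, Finset.prod_const, Finset.card_univ, Fintype.card_fin, Finset.prod_inv_distrib,
    Subgroup.coe_mul, SubgroupClass.coe_pow, divC, InvMemClass.coe_inv, SubmonoidClass.coe_finset_prod]
  simp only [ptPc_val]
  rfl

end Field

end Groth.Agent.AlbCurve
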