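import Groth.Agent.AlbCurve.Main

/-!
# Rigidified classes over connected bases and points of the Jacobian
-/

set_option autoImplicit false
set_option maxHeartbeats 1600000
set_option linter.style.haveILetI false
set_option linter.unusedSectionVars false
set_option backward.isDefEq.respectTransparency false
set_option backward.isDefEq.respectTransparency.types false

universe u

open CategoryTheory CategoryTheory.Limits AlgebraicGeometry TopologicalSpace Opposite MonoidalCategory
  CartesianMonoidalCategory MonObj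

noncomputable section

namespace Groth.Agent.AlbCurve

open Groth.Agent Groth.Agent.PicRep
open Groth.Agent.JacVarLib (Pc pullPc pullPc_val pullPc_comp ext_val out cl_out isInvertible_out)
open scoped Groth.Agent.H23.PicMul

attribute [local instance] Jacobian.curveOver GenusOneX.fibreOver GenusOneX.flat_of_family GenusOneX.lfp_of_family

variable {X S : Scheme.{u}} {f : X ⟶ S} [IsProper f] [SmoothOfRelativeDimension 1 f] [GeometricallyConnected f]

theorem isLocallyConstant_deg {T : Over S} (v : Pc (PicF.XT f T)) :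
    IsLocallyConstant fun t => DegData.deg f T v.1.val t := by
  have hlc : ∀ {G : (PicF.XT f T).Modules}, PicF.IsInvertible G →
      IsLocallyConstant fun t => PerfAux.eulerChar (PicF.XTproj f T) G t := fun {G} hG =>
    DerBC7.isLocallyConstant_eulerChar (f := PicF.XTproj f T) (ProjUPX.isQCoh_of_isInvertible hG)
      (isFP_of_isInvertible hG) (H23.Seesaw.isFlatOver_of_isInvertible (PicF.XTproj f T) hG)
  simp only [deg_eq_sub]
  exact (hlc (isInvertible_out v)).comp₂ (hlc InvX.isInvertible_structureModule) (· - ·)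

/-- Over a connected base degree zero can be checked at one point. -/
theorem mem_PZ_of_point {T T' : Over S} [PreconnectedSpace T.left] (g : T' ⟶ T) (t' : T'.left)
    {v : Pc (PicF.XT f T)} (hv : pullPc (PicF.XTmap f g) v ∈ PZ f T') : v ∈ PZ f T := by
  refine mem_PZ.2 fun t => ((isLocallyConstant_deg v).apply_eq_of_preconnectedSpace t (g.left t')).trans ?_
  rw [← deg_pullPc g]
  exact mem_PZ.1 hv t'

variable {σ : S ⟶ X} {hσ : σ ≫ f = 𝟙 S} {J : Over S} (r : (funct0 f σ hσ).RepresentableBy J)

/-- The morphism of a rigidified class of degree zero. -/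
theorem exists_val0_eq {T : Over S} {v : Pc (PicF.XT f T)} (hv : v ∈ RZ f σ hσ T) :
    ∃ a : T ⟶ J, val0 (r.homEquiv a) = v :=
  ⟨r.homEquiv.symm (elt0 v hv), by rw [Equiv.apply_symm_apply, val0_elt0]⟩

theorem toPc_mem_RP_of_trivial {T : Over S} {c : PicF.Cl (PicF.XT f T)} (hc : PicF.IsInvertibleCl c)
    (h : PicF.IsTrivialCl (PicF.pullCl (PicF.secT f σ hσ T) c)) : toPc c hc ∈ RP f σ hσ T :=
  mem_RP.2 (ext_val (by rw [pullPc_val, toPc_val]; exact h))

/-- A normalised universal family has the class of the identity. -/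
theorem val0_id_of_normalised {ψ : (ModFun.PicDeg f 0).Hom ⊤ J}
    (hψ : ∀ (T : Over S) (E : (PicF.XT f T).Modules) (hT : (⊤ : ObjectProperty (Over S)) T)
      (h : (ModFun.PicDeg f 0).ok T E), ψ.app T E hT h = phi0 r T (PicF.cl E))
    {Pu : (PicF.XT f J).Modules} (hok : (ModFun.PicDeg f 0).ok J Pu) (hPn : Jac.IsNormAlong f σ hσ J Pu)
    {hT : (⊤ : ObjectProperty (Over S)) J} (hid : ψ.app J Pu hT hok = 𝟙 J) :
    val0 (r.homEquiv (𝟙 J)) = toPc (PicF.cl Pu) ⟨Pu, rfl, invertible_of_ok hok⟩ := by
  rw [← hid, hψ, val0_phi0_cl r hok]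
  exact rho_eq_self (toPc_mem_RP_of_trivial _ hPn)

theorem val0_of_normalised {ψ : (ModFun.PicDeg f 0).Hom ⊤ J}
    (hψ : ∀ (T : Over S) (E : (PicF.XT f T).Modules) (hT : (⊤ : ObjectProperty (Over S)) T)
      (h : (ModFun.PicDeg f 0).ok T E), ψ.app T E hT h = phi0 r T (PicF.cl E))
    {Pu : (PicF.XT f J).Modules} (hok : (ModFun.PicDeg f 0).ok J Pu) (hPn : Jac.IsNormAlong f σ hσ J Pu)
    {hT : (⊤ : ObjectProperty (Over S)) J} (hid : ψ.app J Pu hT hok = 𝟙 J) {T : Over S} (a : T ⟶ J) :
    (val0 (r.homEquiv a)).1.val = PicF.pullCl (PicF.XTmap f a) (PicF.cl Pu) := by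
  rw [r.homEquiv_eq a, val0_map, val0_id_of_normalised r hψ hok hPn hid, pullPc_val, toPc_val]

end Groth.Agent.AlbCurve
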