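import Groth.Agent.AlbCurve.Main
import Mathlib.AlgebraicGeometry.ZariskisMainTheorem

/-!
# The Abel map is a closed immersion in positive genus
-/

set_option autoImplicit false
set_option maxHeartbeats 1600000
set_option linter.style.haveILetI false
set_option linter.unusedSectionVars false
set_option backward.isDefEq.respectTransparency false
set_option backward.isDefEq.respectTransparency.types false

universe u

open CategoryTheory CategoryTheory.Limits AlgebraicGeometry TopologicalSpace Opposite MonoidalCategory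
  CartesianMonoidalCategory MonObj

noncomputable section

namespace Groth.Agent.AlbCurve

open Groth.Agent Groth.Agent.PicRep
open Groth.Agent.JacVarLib (Pc pullPc pullPc_val pullPc_comp ext_val out cl_out isInvertible_out dg hz Pt)
open Groth.Agent.GenusOneX (sct sct_proj pt comp_pt idCl)
open scoped Groth.Agent.H23.PicMul

attribute [local instance] Jacobian.curveOver GenusOneX.fibreOver GenusOneX.flat_of_family GenusOneX.lfp_of_family

section Alg

variable (k : Type u) [Field k] [IsAlgClosed k] {C : Scheme.{u}} [C.Over (Spec (CommRingCat.of k))] [IsIntegral C]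
  [IsProper (C ↘ Spec (CommRingCat.of k))] [Smooth (C ↘ Spec (CommRingCat.of k))]
  (hdim : topologicalKrullDim C = 1)

open Groth.Agent.JacVarLib (isOpen_gen hz_div_O exists_pt_mem O)

include hdim in
/-- A class with sections loses one at some point outside a given finite set. -/
theorem exists_hz_drop_avoid {v : Pc C} (h : 0 < hz k v) (F : Finset C) (hF : ∀ c ∈ F, IsClosed ({c} : Set C)) :
    ∃ x : Pt C, x.1 ∉ F ∧ hz k v = hz k (v / O k hdim x) + 1 := by
  have hFc : IsClosed (F : Set C) := by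
    rw [← Set.biUnion_of_singleton (F : Set C)]
    exact F.finite_toSet.isClosed_biUnion fun c hc => hF c hc
  obtain ⟨x, hx, hxF⟩ := exists_pt_mem k ((isOpen_gen k v).inter hFc.isOpen_compl)
    ⟨genericPoint C, JacSepPts.genericPoint_mem_genLocus k (JacVarLib.isInvertible_out v) h, fun hc =>
      CurveEmbed.genericPoint_not_closed (X := C) hdim (hF _ hc)⟩
  exact ⟨x, hxF, (hz_div_O k hdim v x).1 hx⟩

variable (hg : 0 < Curv2.genus k C)

include hg in
/-- In positive genus a point has only one section. -/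
theorem hz_O (x₀ : Pt C) : hz k (O k hdim x₀) = 1 := by
  have hle := (JacVarLib.hz_mul_O k hdim 1 x₀).2
  rw [_root_.one_mul, JacVarLib.hz_one] at hle
  have hpos := JacVarLib.hz_pos_of_eff k hdim (JacVarLib.eff_O k hdim x₀)
  by_contra h
  obtain ⟨y, hy, hdrop⟩ := exists_hz_drop_avoid k hdim (v := O k hdim x₀) (by omega) {x₀.1}
    (fun c hc => by rw [Finset.mem_singleton.1 hc]; exact x₀.2)
  obtain ⟨z, hz'⟩ := JacVarLib.eff_of_hz_pos k hdim (n := 0) (v := O k hdim x₀ / O k hdim y)
    (by rw [JacVarLib.dg_div k hdim, JacVarLib.dg_O k hdim, JacVarLib.dg_O k hdim]; rfl) (by omega)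
  rw [Fin.prod_univ_zero] at hz'
  exact hy (Finset.mem_singleton.2 (congrArg Subtype.val
    (JacVarLib.O_injective k hdim hg (div_eq_one.1 hz')).symm))

include hg in
/-- A point is completed to a tuple of distinct points whose divisor has one section. -/
theorem exists_completion (x₀ : Pt C) : ∀ m : ℕ, m < Curv2.genus k C →
    ∃ x : Fin (m + 1) → Pt C, x 0 = x₀ ∧ Function.Injective x ∧ hz k (∏ i, O k hdim (x i)) = 1
  | 0, _ => ⟨fun _ => x₀, rfl, fun i i' _ => Subsingleton.elim (α := Fin 1) i i', by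
      rw [Fin.prod_univ_one]; exact hz_O k hdim hg x₀⟩
  | m + 1, hm => by
    classical
    obtain ⟨x, hx0, hxi, hx1⟩ := exists_completion x₀ m (by omega)
    obtain ⟨K, -, -, hRR⟩ := JacVarLib.exists_dualizing k hdim
    have h1 := hRR (∏ i, O k hdim (x i))
    have hd : dg k (∏ i, O k hdim (x i)) = (m + 1 : ℕ) := JacVarLib.dg_of_eff k hdim ⟨x, rfl⟩
    rw [hx1, hd] at h1
    obtain ⟨y, hy, hdrop⟩ := exists_hz_drop_avoid k hdim (v := K / ∏ i, O k hdim (x i)) (by omega)
      (Finset.univ.image fun i => (x i).1) (fun c hc => by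
        obtain ⟨i, -, rfl⟩ := Finset.mem_image.1 hc
        exact (x i).2)
    refine ⟨Fin.snoc x y, ?_, ?_, ?_⟩
    · rw [show (0 : Fin (m + 2)) = Fin.castSucc 0 from rfl, Fin.snoc_castSucc, hx0]
    · refine Fin.snoc_injective_iff.2 ⟨hxi, ?_⟩
      rintro ⟨i, hi⟩
      exact hy (Finset.mem_image.2 ⟨i, Finset.mem_univ _, congrArg Subtype.val hi⟩)
    · have h2 := hRR ((∏ i, O k hdim (x i)) * O k hdim y)
      rw [JacVarLib.dg_mul k hdim, hd, JacVarLib.dg_O k hdim, div_mul_eq_div_div] at h2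
      rw [Fin.prod_univ_castSucc]
      simp only [Fin.snoc_castSucc, Fin.snoc_last]
      push_cast at h1 h2
      omega

end Alg

section Field

variable {k : Type u} [Field k] {C : Scheme.{u}} [C.Over (Spec (CommRingCat.of k))]
  [IsProper (C ↘ Spec (CommRingCat.of k))] [SmoothOfRelativeDimension 1 (C ↘ Spec (CommRingCat.of k))]
  [GeometricallyConnected (C ↘ Spec (CommRingCat.of k))]
  {σ : Spec (CommRingCat.of k) ⟶ C} {hσ : σ ≫ C ↘ Spec (CommRingCat.of k) = 𝟙 _}
  {J : Over (Spec (CommRingCat.of k))} [GrpObj J] [IsCommMonObj J]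
  (r : (funct0 (C ↘ Spec (CommRingCat.of k)) σ hσ).RepresentableBy J)
  (hmul : ∀ (T : Over (Spec (CommRingCat.of k))) (a b : T ⟶ J),
    val0 (r.homEquiv (a * b)) = val0 (r.homEquiv a) * val0 (r.homEquiv b))
  {j : Over.mk (C ↘ Spec (CommRingCat.of k)) ⟶ J}
  (hj : ∀ (T : Over (Spec (CommRingCat.of k))) (x : T ⟶ Over.mk (C ↘ Spec (CommRingCat.of k))),
    val0 (r.homEquiv (x ≫ j)) =
      rho (C ↘ Spec (CommRingCat.of k)) σ hσ (ptPc (pt (C ↘ Spec (CommRingCat.of k)) σ hσ T) * (ptPc x)⁻¹))
  (hdim : topologicalKrullDim C = 1) (hg : 0 < Curv2.genus k C)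

theorem pc_base_eq_one {Ω : Type u} [Field Ω] (m : Pc (Spec (CommRingCat.of Ω))) : m = 1 := by
  haveI : Subsingleton ↥(Spec (CommRingCat.of Ω)) := inferInstanceAs (Subsingleton (PrimeSpectrum Ω))
  obtain ⟨e⟩ := GenusOneX.nonempty_iso_one (isInvertible_out m) (IsLocalRing.closedPoint Ω)
  exact ext_val ((cl_out m).symm.trans (H23.PicMul.cl_eq_iff.2 ⟨e⟩))

/-- The point of a geometric point of the curve. -/
def ptOf {Ω : Type u} [Field Ω] [IsAlgClosed Ω] (τ : Spec (CommRingCat.of Ω) ⟶ Spec (CommRingCat.of k))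
    (P : Over.mk τ ⟶ Over.mk (C ↘ Spec (CommRingCat.of k))) : Pt (PicF.XT (C ↘ Spec (CommRingCat.of k)) (Over.mk τ)) :=
  ⟨sct (C ↘ Spec (CommRingCat.of k)) P (IsLocalRing.closedPoint Ω), Jacobian.isClosed_sct _ τ P⟩

theorem ptPc_eq_O {Ω : Type u} [Field Ω] [IsAlgClosed Ω] (τ : Spec (CommRingCat.of Ω) ⟶ Spec (CommRingCat.of k))
    (P : Over.mk τ ⟶ Over.mk (C ↘ Spec (CommRingCat.of k))) :
    ptPc P = (JacVarLib.O Ω (Jacobian.curve_dim _ τ) (ptOf τ P))⁻¹ := by
  refine ext_val ?_
  rw [JacVarLib.O_inv_val, ptPc_val, Jacobian.idCl_eq_ptMod]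
  rfl

include hmul hj hdim hg in
/-- The Abel map is injective on geometric points. -/
theorem eq_of_comp_eq {Ω : Type u} [Field Ω] [IsAlgClosed Ω] (τ : Spec (CommRingCat.of Ω) ⟶ Spec (CommRingCat.of k))
    {x y : Over.mk τ ⟶ Over.mk (C ↘ Spec (CommRingCat.of k))} (h : x ≫ j = y ≫ j) : x = y := by
  let f := C ↘ Spec (CommRingCat.of k)
  haveI : Smooth f := SmoothOfRelativeDimension.smooth (n := 1) _
  haveI := CurveBC.isIntegral_of_h0 k C (CurveBC.finrank_h0_of_geometricallyConnected k C)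
  obtain ⟨m, hm⟩ := exists_divC_eq r hmul hj (x := fun _ : Fin 1 => x) (y := fun _ : Fin 1 => y)
    (by simpa only [Fin.prod_univ_one] using h)
  rw [pc_base_eq_one m, map_one, _root_.mul_one, divC, divC, Fin.prod_univ_one, Fin.prod_univ_one, inv_inj,
    ptPc_eq_O, ptPc_eq_O, inv_inj] at hm
  exact (Jacobian.point_ext f τ (congrArg Subtype.val
    (JacVarLib.O_injective Ω (Jacobian.curve_dim f τ) (by rw [genus_geom (X := C) τ]; exact hg) hm))).symm

include hdim in
/-- A geometric point is completed to a tuple of distinct points with a good divisor. -/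
theorem exists_completion_geom {Ω : Type u} [Field Ω] [IsAlgClosed Ω]
    (τ : Spec (CommRingCat.of Ω) ⟶ Spec (CommRingCat.of k)) {n : ℕ} (hn : Curv2.genus k C = n + 1)
    (x₀ : Over.mk τ ⟶ Over.mk (C ↘ Spec (CommRingCat.of k))) :
    ∃ Q : Fin n → (Over.mk τ ⟶ Over.mk (C ↘ Spec (CommRingCat.of k))),
      Good (PicF.XTproj (C ↘ Spec (CommRingCat.of k)) (Over.mk τ)) (divC (Fin.cons x₀ Q)) (IsLocalRing.closedPoint Ω) ∧
        Distinct (Fin.cons x₀ Q) (IsLocalRing.closedPoint Ω) := by
  let f := C ↘ Spec (CommRingCat.of k)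
  haveI : Smooth f := SmoothOfRelativeDimension.smooth (n := 1) _
  haveI := CurveBC.isIntegral_of_h0 k C (CurveBC.finrank_h0_of_geometricallyConnected k C)
  have hdimC := Jacobian.curve_dim f τ
  have hgen := genus_geom (X := C) τ
  obtain ⟨x, hx0, hxi, hx1⟩ := exists_completion Ω hdimC (by rw [hgen]; omega) (ptOf τ x₀) n (by rw [hgen]; omega)
  choose P hP using fun i : Fin n => Jacobian.exists_point_of_closed f τ (x i.succ).2
  have hall : ∀ i, ptPc ((Fin.cons x₀ P : Fin (n + 1) → _) i) = (JacVarLib.O Ω hdimC (x i))⁻¹ := by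
    refine Fin.cases ?_ fun i => ?_
    · rw [Fin.cons_zero, hx0]; exact ptPc_eq_O τ x₀
    · rw [Fin.cons_succ]
      refine ext_val ?_
      rw [JacVarLib.O_inv_val, ptPc_val]
      exact hP i
  have hD : divC (Fin.cons x₀ P : Fin (n + 1) → _) = ∏ i, JacVarLib.O Ω hdimC (x i) := by
    rw [divC, Finset.prod_congr rfl fun i _ => hall i, Finset.prod_inv_distrib, inv_inv]
  refine ⟨P, ?_, fun i i' hne hm => hne (hxi ?_)⟩
  · refine (good_iff f τ _ (IsLocalRing.closedPoint Ω)).2 (euler_of_hz Ω hdimC ?_ ?_)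
    · rw [hD, JacVarLib.dg_of_eff Ω hdimC ⟨x, rfl⟩, hgen, hn]
    · rw [hD, hx1]
  · refine JacVarLib.O_injective Ω hdimC (by rw [hgen]; omega) (inv_inj.1 ?_)
    rw [← hall, ← hall, ptPc_eq_O, ptPc_eq_O]
    exact congrArg (fun p => (JacVarLib.O Ω hdimC p)⁻¹) (Subtype.ext (sct_eq_of_mem hm))

include hmul hj hdim hg in
/-- The Abel map is a monomorphism on points. -/
theorem eq_of_comp_eq' {T : Over (Spec (CommRingCat.of k))} {x y : T ⟶ Over.mk (C ↘ Spec (CommRingCat.of k))}
    (h : x ≫ j = y ≫ j) : x = y := by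
  classical
  let f := C ↘ Spec (CommRingCat.of k)
  haveI : Smooth f := SmoothOfRelativeDimension.smooth (n := 1) _
  obtain ⟨n, hn⟩ : ∃ n, Curv2.genus k C = n + 1 := ⟨_, (Nat.succ_pred_eq_of_pos hg).symm⟩
  obtain ⟨W, ρ, pr, hWp, hWc, hWo, hWs, hlift, -⟩ :=
    Jacobian.exists_power f (𝟙_ (Over (Spec (CommRingCat.of k)))) n
  have hW : ρ.left = W.hom := (Category.comp_id _).symm.trans (Over.w ρ)
  haveI := hWs
  haveI : Smooth W.hom := hW ▸ SmoothOfRelativeDimension.smooth (n := n) ρ.left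
  let a : Fin (n + 1) → (T ⊗ W ⟶ Over.mk f) := Fin.cons (fst T W ≫ x) fun i => snd T W ≫ pr i
  let b : Fin (n + 1) → (T ⊗ W ⟶ Over.mk f) := Fin.cons (fst T W ≫ y) fun i => snd T W ≫ pr i
  let O : (T ⊗ W).left.Opens :=
    goodLocus (PicF.XTproj f (T ⊗ W)) (divC a) ⊓ ⟨{w | Distinct a w}, isOpen_distinct a⟩
  let T' : Over (Spec (CommRingCat.of k)) := Over.mk (O.ι ≫ (T ⊗ W).hom)
  let i : T' ⟶ T ⊗ W := Over.homMk O.ι rfl
  let π : T' ⟶ T := i ≫ fst T W
  haveI : Flat (fst T W).left := inferInstanceAs (Flat (pullback.fst T.hom W.hom))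
  haveI : LocallyOfFinitePresentation (fst T W).left :=
    inferInstanceAs (LocallyOfFinitePresentation (pullback.fst T.hom W.hom))
  haveI : Flat π.left := inferInstanceAs (Flat (O.ι ≫ (fst T W).left))
  haveI : LocallyOfFinitePresentation π.left := inferInstanceAs (LocallyOfFinitePresentation (O.ι ≫ (fst T W).left))
  haveI : Surjective π.left := ⟨fun t => by
    obtain ⟨Ω, _, _, τ, g, hgt⟩ := exists_geom (S := Spec (CommRingCat.of k)) (T := T) t
    obtain ⟨Q, hQg, hQd⟩ := exists_completion_geom hdim τ hn (g ≫ x)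
    obtain ⟨u, -, hu⟩ := hlift (Over.mk τ) (toUnit _) Q
    let z : Over.mk τ ⟶ T ⊗ W := lift g u
    have hz' : (fun i => z ≫ a i) = (Fin.cons (g ≫ x) Q : Fin (n + 1) → _) := funext fun i => by
      refine Fin.cases ?_ (fun i => ?_) i
      · simp [z, a]
      · simp [z, a, hu]
    have hmem : z.left (IsLocalRing.closedPoint Ω) ∈ O := by
      refine ⟨?_, distinct_of_pull z (by rw [hz']; exact hQd)⟩
      show Good (PicF.XTproj f (T ⊗ W)) (divC a) _
      rw [← good_pull z, pull_divC, hz']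
      exact hQg
    refine ⟨⟨_, hmem⟩, ?_⟩
    show (fst T W).left (z.left (IsLocalRing.closedPoint Ω)) = t
    rw [← Scheme.Hom.comp_apply, ← Over.comp_left, lift_fst]
    exact hgt⟩
  have key : π ≫ x = π ≫ y := by
    let a' := fun l => i ≫ a l
    let b' := fun l => i ≫ b l
    have ha0 : a' 0 = π ≫ x := by simp [a', a, π]
    have hb0 : b' 0 = π ≫ y := by simp [b', b, π]
    have hab : ∀ l : Fin n, b' l.succ = a' l.succ := fun l => by simp [a', b', a, b]
    have ha : ∀ t, Good (PicF.XTproj f T') (divC a') t ∧ Distinct a' t := fun t => by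
      refine ⟨?_, distinct_pull i t.2.2⟩
      rw [← pull_divC]
      exact (good_pull i _ t).2 t.2.1
    have hb : ∀ t, Distinct b' t := fun t => by
      obtain ⟨Ω, _, _, τ, g, rfl⟩ := exists_geom (S := Spec (CommRingCat.of k)) (T := T') t
      refine distinct_of_pull g ?_
      have heq : (fun l => g ≫ b' l) = fun l => g ≫ a' l := funext fun l => by
        refine Fin.cases ?_ (fun l => by rw [hab]) l
        refine eq_of_comp_eq r hmul hj hdim hg τ ?_
        rw [ha0, hb0]
        simp only [Category.assoc, h]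
      rw [heq]
      exact distinct_pull g (ha _).2
    have hsum : ∏ l, a' l ≫ j = ∏ l, b' l ≫ j := by
      refine Finset.prod_congr rfl fun l _ => ?_
      refine Fin.cases ?_ (fun l => by rw [hab]) l
      rw [ha0, hb0]
      simp only [Category.assoc, h]
    obtain ⟨m, hm⟩ := exists_divC_eq r hmul hj hsum
    have hI := divI_eq (fun t => (ha t).1) hm
    have hloc : ∀ t : T'.left, ∃ V : T'.left.Opens, t ∈ V ∧ V.ι ≫ (π ≫ x).left = V.ι ≫ (π ≫ y).left := by
      intro t
      obtain ⟨V, p, ht, hV⟩ := exists_open_match (ha t).2 (hb t) hI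
      refine ⟨V, ht, ?_⟩
      have hfix : ∀ l : Fin n, p l.succ = l.succ := fun l => by
        by_contra hne
        refine (ha t).2 (p l.succ) l.succ hne ⟨t, ?_⟩
        have e := hV l.succ
        rw [hab] at e
        have e' : V.ι ≫ sct f (a' l.succ) = V.ι ≫ sct f (a' (p l.succ)) := pullback.hom_ext
          (by simpa only [Category.assoc, sct, pullback.lift_fst] using e)
          (by simp only [Category.assoc, sct, pullback.lift_snd])
        exact congrArg (fun m => m.base (⟨t, ht⟩ : V)) e'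
      have h0 : p 0 = 0 := by
        refine Fin.cases (motive := fun l => p 0 = l → p 0 = 0) (fun h => h) (fun l hl => ?_) (p 0) rfl
        exact absurd (p.injective (hl.trans (hfix l).symm)) (Fin.succ_ne_zero l).symm
      have e := hV 0
      rw [h0, ha0, hb0] at e
      exact e.symm
    choose V ht hV using hloc
    exact Over.OverMorphism.ext ((Scheme.openCoverOfIsOpenCover T'.left V (by
      rw [TopologicalSpace.IsOpenCover, eq_top_iff]
      exact fun t _ => Opens.mem_iSup.2 ⟨t, ht t⟩)).hom_ext _ _ fun t => hV t)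
  exact Over.OverMorphism.ext ((cancel_epi π.left).1 (congrArg CommaMorphism.left key))

include hmul hj hdim hg in
/-- The Abel map is a closed immersion. -/
theorem isClosedImmersion_abel [IsSeparated J.hom] : IsClosedImmersion j.left := by
  rw [IsClosedImmersion.iff_isProper_and_mono]
  refine ⟨?_, ⟨fun {Z} a b e => ?_⟩⟩
  · haveI : IsProper (j.left ≫ J.hom) := by
      rw [Over.w j]
      exact ‹IsProper (C ↘ Spec (CommRingCat.of k))›
    exact IsProper.of_comp j.left J.hom
  · have hb : b ≫ (C ↘ Spec (CommRingCat.of k)) = a ≫ (C ↘ Spec (CommRingCat.of k)) := by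
      have h1 : j.left ≫ J.hom = C ↘ Spec (CommRingCat.of k) := Over.w j
      rw [← h1, ← Category.assoc, ← e, Category.assoc]
    exact congrArg CommaMorphism.left (eq_of_comp_eq' r hmul hj hdim hg
      (T := Over.mk (a ≫ (C ↘ Spec (CommRingCat.of k)))) (x := Over.homMk a rfl) (y := Over.homMk b hb)
      (Over.OverMorphism.ext e))

end Field

end Groth.Agent.AlbCurve
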