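import Groth.Agent.PicRep.Points
import Groth.Agent.FlatX.RelCartier
import Groth.Agent.DepthTwist.IdealPow
import Groth.Agent.FComplLib.IdealComap

/-!
# Sums of sections of a relative curve as divisors
-/

set_option autoImplicit false
set_option maxHeartbeats 1600000
set_option linter.style.haveILetI false
set_option linter.unusedSectionVars false
set_option backward.isDefEq.respectTransparency false
set_option backward.isDefEq.respectTransparency.types false

universe u

open CategoryTheory CategoryTheory.Limits AlgebraicGeometry TopologicalSpace Opposite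

noncomputable section

namespace Groth.Agent.AlbCurve

open Groth.Agent Groth.Agent.PicRep
open Groth.Agent.JacVarLib (Pc pullPc pullPc_val pullPc_comp ext_val out cl_out isInvertible_out)
open Groth.Agent.GenusOneX (sct sct_proj idCl idCl_val isInvertible_ker map_idCl)
open scoped Groth.Agent.H23.PicMul

attribute [local instance] GenusOneX.fibreOver GenusOneX.flat_of_family GenusOneX.lfp_of_family

variable {X S : Scheme.{u}} {f : X ⟶ S} [IsProper f] [SmoothOfRelativeDimension 1 f] [GeometricallyConnected f]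

/-- The ideal of the graph of a point. -/
abbrev ptI {T : Over S} (P : T ⟶ Over.mk f) : (PicF.XT f T).IdealSheafData := (sct f P).ker

instance isClosedImmersion_sct {T : Over S} (P : T ⟶ Over.mk f) : IsClosedImmersion (sct f P) := by
  haveI : IsClosedImmersion (sct f P ≫ PicF.XTproj f T) := by rw [sct_proj]; infer_instance
  exact IsClosedImmersion.of_comp (sct f P) (PicF.XTproj f T)

theorem rel_ptI {T : Over S} (P : T ⟶ Over.mk f) :
    BlowUp.IsEffCartierIdeal (ptI P) ∧ Flat ((ptI P).subschemeι ≫ PicF.XTproj f T) := by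
  refine ⟨(S8914.result _).1 (isInvertible_ker (PicF.XTproj f T) (sct_proj f P)), ?_⟩
  haveI : IsIso ((sct f P).toImage ≫ (ptI P).subschemeι ≫ PicF.XTproj f T) := by
    rw [show (sct f P).toImage ≫ (ptI P).subschemeι ≫ PicF.XTproj f T = 𝟙 _ from
      ((sct f P).toImage_imageι_assoc _).trans (sct_proj f P)]
    infer_instance
  haveI : IsIso ((ptI P).subschemeι ≫ PicF.XTproj f T) := IsIso.of_isIso_comp_left (sct f P).toImage _
  infer_instance

/-- The class of a point. -/
def ptPc {T : Over S} (P : T ⟶ Over.mk f) : Pc (PicF.XT f T) :=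
  toPc (PicF.cl (ClSub.idealMod (ptI P))) ⟨_, rfl, isInvertible_ker (PicF.XTproj f T) (sct_proj f P)⟩

theorem ptPc_val {T : Over S} (P : T ⟶ Over.mk f) : (ptPc P).1 = idCl f P :=
  Units.ext ((toPc_val _ _).trans (idCl_val f P).symm)

theorem pull_ptPc {T T' : Over S} (g : T' ⟶ T) (P : T ⟶ Over.mk f) :
    pullPc (PicF.XTmap f g) (ptPc P) = ptPc (g ≫ P) := by
  refine Subtype.ext ?_
  rw [ptPc_val, ← map_idCl, ← ptPc_val]
  exact Units.ext (pullPc_val _ _)

/-- The divisor of a tuple of points. -/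
abbrev divI {T : Over S} {n : ℕ} (x : Fin n → (T ⟶ Over.mk f)) : (PicF.XT f T).IdealSheafData := ∏ i, ptI (x i)

/-- The class of the inverse ideal of a tuple of points. -/
abbrev divC {T : Over S} {n : ℕ} (x : Fin n → (T ⟶ Over.mk f)) : Pc (PicF.XT f T) := (∏ i, ptPc (x i))⁻¹

theorem pull_divC {T T' : Over S} (g : T' ⟶ T) {n : ℕ} (x : Fin n → (T ⟶ Over.mk f)) :
    pullPc (PicF.XTmap f g) (divC x) = divC fun i => g ≫ x i := by
  rw [divC, divC, map_inv, map_prod]
  exact congrArg (·⁻¹) (Finset.prod_congr rfl fun i _ => pull_ptPc g (x i))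

theorem cl_divI {T : Over S} : ∀ {n : ℕ} (x : Fin (n + 1) → (T ⟶ Over.mk f)),
    (BlowUp.IsEffCartierIdeal (divI x) ∧ Flat ((divI x).subschemeι ≫ PicF.XTproj f T)) ∧
      PicF.cl (ClSub.idealMod (divI x)) = ((∏ i, ptPc (x i) : Pc (PicF.XT f T)).1.val)
  | 0, x => by
    rw [divI, Fin.prod_univ_one, Fin.prod_univ_one]
    exact ⟨rel_ptI _, (toPc_val _ _).symm⟩
  | n + 1, x => by
    obtain ⟨⟨h1, h2⟩, h3⟩ := cl_divI fun i : Fin (n + 1) => x i.succ
    have hI := isInvertible_ker (PicF.XTproj f T) (sct_proj f (x 0))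
    rw [divI, Fin.prod_univ_succ (fun i => ptI (x i)), Fin.prod_univ_succ (fun i => ptPc (x i))]
    refine ⟨FlatX.flat_mul _ (rel_ptI _).1 h1 (rel_ptI _).2 h2, ?_⟩
    obtain ⟨e⟩ := DepthTwist.nonempty_idealMod_mul_iso (ptI (x 0)) (divI fun i : Fin (n + 1) => x i.succ) hI
    refine (H23.PicMul.cl_eq_iff.2 ⟨e⟩).symm.trans ((H23.PicMul.cl_tensor _ _).trans ?_)
    rw [h3, Subgroup.coe_mul, Units.val_mul, ptPc, toPc_val]

theorem isFinite_divI {T : Over S} {n : ℕ} (x : Fin (n + 1) → (T ⟶ Over.mk f)) :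
    IsFinite ((divI x).subschemeι ≫ PicF.XTproj f T) := by
  obtain ⟨hC, hfl⟩ := (cl_divI x).1
  haveI := hfl
  obtain ⟨hq, hp⟩ := RelCurve.lqf_lfp_of_cartier (PicF.XTproj f T) hC hfl
  haveI := hq
  haveI := hp
  exact IsFinite.of_isProper_of_locallyQuasiFinite _

/-- A good divisor is determined by its class modulo the base. -/
theorem divI_eq {T : Over S} {n : ℕ} {x y : Fin (n + 1) → (T ⟶ Over.mk f)}
    (hx : ∀ t, Good (PicF.XTproj f T) (divC x) t) {m : Pc T.left}
    (hm : divC y = divC x * pullPc (PicF.XTproj f T) m) : divI x = divI y := by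
  let q := PicF.XTproj f T
  have h1 := hasOneSection_of_good q hx
  obtain ⟨Z, hZ⟩ := ZeroMapX.exists_isZeroIdeal (GenusOneX.ev q (out (divC x)))
    (PicClLib.isInvertible_pullback q (PicRep.isInvertible_push h1)) h1.inv
  have key : ∀ (z : Fin (n + 1) → (T ⟶ Over.mk f)) (p : Pc T.left), divC z = divC x * pullPc q p → divI z = Z := by
    intro z p hp
    haveI := isFinite_divI z
    obtain ⟨i⟩ : Nonempty ((Scheme.Modules.pullback q).obj (out p⁻¹) ≅
        CohB1.tensorMod (ClSub.idealMod (divI z)) (out (divC x))) := H23.PicMul.cl_eq_iff.1 (by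
      rw [H23.PicMul.cl_tensor, (cl_divI z).2, cl_out]
      show PicF.pullCl q (PicF.cl (out p⁻¹)) = _
      rw [cl_out, ← pullPc_val]
      have e : pullPc q p⁻¹ = (∏ i, ptPc (z i)) * divC x := by
        rw [← inv_inv (∏ i, ptPc (z i))]
        change _ = (divC z)⁻¹ * _
        rw [hp, map_inv]; group
      rw [e]; rfl)
    exact eq_zeroIdeal h1 hZ ((S8914.result _).2 (cl_divI z).1.1) (isInvertible_out _) i
  exact (key x 1 (by rw [map_one, mul_one])).trans (key y m hm).symm

/-- Distinctness of a tuple at a point. -/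
def Distinct {T : Over S} {n : ℕ} (x : Fin n → (T ⟶ Over.mk f)) (t : T.left) : Prop :=
  ∀ i j, i ≠ j → sct f (x i) t ∉ Set.range (sct f (x j))

theorem isOpen_distinct {T : Over S} {n : ℕ} (x : Fin n → (T ⟶ Over.mk f)) : IsOpen {t | Distinct x t} := by
  have : {t | Distinct x t} = ⋂ i, ⋂ j, {t | i ≠ j → sct f (x i) t ∉ Set.range (sct f (x j))} := by
    ext t; simp [Distinct]
  rw [this]
  refine isOpen_iInter_of_finite fun i => isOpen_iInter_of_finite fun j => ?_
  by_cases h : i = j
  · simp [h]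
  · simp only [h, ne_eq, not_false_eq_true, forall_const]
    exact ((sct f (x j)).isClosedEmbedding.isClosed_range.isOpen_compl).preimage (sct f (x i)).continuous

theorem sct_eq_of_mem {T : Over S} {P Q : T ⟶ Over.mk f} {t : T.left} (h : sct f P t ∈ Set.range (sct f Q)) :
    sct f P t = sct f Q t := by
  obtain ⟨s, hs⟩ := h
  have hP : PicF.XTproj f T (sct f P t) = t := by rw [← Scheme.Hom.comp_apply, sct_proj]; rfl
  have hQ : PicF.XTproj f T (sct f Q s) = s := by rw [← Scheme.Hom.comp_apply, sct_proj]; rfl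
  rw [hs, hP] at hQ
  rw [← hs, ← hQ]

theorem distinct_pull {T T' : Over S} (g : T' ⟶ T) {n : ℕ} {x : Fin n → (T ⟶ Over.mk f)} {t' : T'.left}
    (h : Distinct x (g.left t')) : Distinct (fun i => g ≫ x i) t' := fun i j hij hm => by
  have e : ∀ i, PicF.XTmap f g (sct f (g ≫ x i) t') = sct f (x i) (g.left t') := fun i => by
    rw [← Scheme.Hom.comp_apply, GenusOneX.sct_comp]; rfl
  refine h i j hij ⟨g.left t', ?_⟩
  rw [← e i, ← e j, sct_eq_of_mem hm]

theorem comap_prod_eq_top {Y V : Scheme.{u}} (a : V ⟶ Y) {ι : Type*} (B : Finset ι) (I : ι → Y.IdealSheafData)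
    (h : ∀ j ∈ B, (I j).comap a = ⊤) : (∏ j ∈ B, I j).comap a = ⊤ := by
  classical
  induction B using Finset.induction_on with
  | empty => rw [Finset.prod_empty]; exact Scheme.IdealSheafData.comap_top _
  | @insert b B hb ih =>
    rw [Finset.prod_insert hb, FComplLib.comap_mul, h b (Finset.mem_insert_self _ _),
      ih (fun j hj => h j (Finset.mem_insert_of_mem hj)), Scheme.IdealSheafData.top_mul]

theorem comap_ker_eq_top {Y V Z : Scheme.{u}} (a : V ⟶ Y) (s : Z ⟶ Y) [IsClosedImmersion s]
    (h : ∀ v, a v ∉ Set.range s) : s.ker.comap a = ⊤ := by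
  rw [← Scheme.IdealSheafData.support_eq_bot_iff, Scheme.IdealSheafData.support_comap]
  refine SetLike.coe_injective (Set.eq_empty_of_forall_notMem fun v hv => h v ?_)
  have h1 : a v ∈ (s.ker.support : Set Y) := hv
  rw [Scheme.Hom.support_ker] at h1
  change a v ∈ closure (Set.range s) at h1
  rwa [s.isClosedEmbedding.isClosed_range.closure_eq] at h1

theorem bot_mul_ideal {V : Scheme.{u}} (I : V.IdealSheafData) : ⊥ * I = ⊥ :=
  Scheme.IdealSheafData.ext (funext fun W => by
    rw [Scheme.IdealSheafData.ideal_mul, Pi.mul_apply, Scheme.IdealSheafData.ideal_bot, Pi.bot_apply, Ideal.bot_mul])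

theorem isEmpty_of_bot_eq_top {V : Scheme.{u}} (h : (⊥ : V.IdealSheafData) = ⊤) (v : V) : False := by
  have h2 : (⊥ : V.IdealSheafData).support = (⊤ : V.IdealSheafData).support := by rw [h]
  rw [Scheme.IdealSheafData.support_bot, Scheme.IdealSheafData.support_top] at h2
  exact Set.notMem_empty v (h2 ▸ Set.mem_univ v : v ∈ ((⊥ : Closeds V) : Set V))

/-- A point whose divisor contains it is locally one of the others. -/
theorem exists_open_eq {T : Over S} {n : ℕ} {x y : Fin n → (T ⟶ Over.mk f)} {t : T.left}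
    (hx : Distinct x t) (h : divI x = divI y) (i : Fin n) :
    ∃ (j : Fin n) (V : T.left.Opens), t ∈ V ∧ V.ι ≫ sct f (y i) = V.ι ≫ sct f (x j) := by
  classical
  let A := Finset.univ.filter fun j => sct f (y i) t ∉ Set.range (sct f (x j))
  let U : (PicF.XT f T).Opens := ⟨⋂ j ∈ A, (Set.range (sct f (x j)))ᶜ,
    isOpen_biInter_finset fun j _ => (sct f (x j)).isClosedEmbedding.isClosed_range.isOpen_compl⟩
  let V : T.left.Opens := sct f (y i) ⁻¹ᵁ U
  have htV : t ∈ V := Set.mem_iInter₂.2 fun j hj => (Finset.mem_filter.1 hj).2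
  have hbot : (divI x).comap (V.ι ≫ sct f (y i)) = ⊥ := by
    rw [h, divI, ← Finset.mul_prod_erase Finset.univ _ (Finset.mem_univ i), FComplLib.comap_mul,
      Scheme.IdealSheafData.comap_comp (ptI (y i)), FComplLib.ker_self_comap,
      Scheme.IdealSheafData.comap_bot, bot_mul_ideal]
  have htop : ∀ j ∈ A, (ptI (x j)).comap (V.ι ≫ sct f (y i)) = ⊤ := fun j hj =>
    comap_ker_eq_top _ _ fun v => Set.mem_iInter₂.1 (show sct f (y i) v.1 ∈ (U : Set _) from v.2) j hj
  by_cases hj : ∃ j, sct f (y i) t ∈ Set.range (sct f (x j))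
  · obtain ⟨j, hj⟩ := hj
    refine ⟨j, V, htV, ?_⟩
    have hsub : ∀ j' ∈ Finset.univ.erase j, j' ∈ A := fun j' hj' => by
      refine Finset.mem_filter.2 ⟨Finset.mem_univ _, fun hj'' => ?_⟩
      exact hx j' j (Finset.ne_of_mem_erase hj') ⟨t, ((sct_eq_of_mem hj).symm.trans (sct_eq_of_mem hj''))⟩
    rw [divI, ← Finset.mul_prod_erase Finset.univ _ (Finset.mem_univ j), FComplLib.comap_mul,
      comap_prod_eq_top _ _ _ (fun j' hj' => htop j' (hsub j' hj')), mul_comm, Scheme.IdealSheafData.top_mul] at hbot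
    have hle : (sct f (x j)).ker ≤ (V.ι ≫ sct f (y i)).ker := by
      rw [← Scheme.IdealSheafData.map_bot (V.ι ≫ sct f (y i))]
      exact Scheme.IdealSheafData.le_map_iff_comap_le.2 hbot.le
    have h1 := IsClosedImmersion.lift_fac (sct f (x j)) _ hle
    have h2 : IsClosedImmersion.lift (sct f (x j)) _ hle = V.ι := by
      have h3 := congrArg (· ≫ PicF.XTproj f T) h1
      simp only [Category.assoc, sct_proj, Category.comp_id] at h3
      exact h3
    rw [h2] at h1
    exact h1.symm
  · exfalso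
    push Not at hj
    exact isEmpty_of_bot_eq_top (hbot.symm.trans (comap_prod_eq_top _ _ _
      fun j _ => htop j (Finset.mem_filter.2 ⟨Finset.mem_univ _, hj j⟩))) (⟨t, htV⟩ : V)

/-- Equal divisors of distinct points are locally permutations of each other. -/
theorem exists_open_match {T : Over S} {n : ℕ} {x y : Fin n → (T ⟶ Over.mk f)} {t : T.left}
    (hx : Distinct x t) (hy : Distinct y t) (h : divI x = divI y) :
    ∃ (V : T.left.Opens) (π : Equiv.Perm (Fin n)), t ∈ V ∧ ∀ i, V.ι ≫ (y i).left = V.ι ≫ (x (π i)).left := by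
  classical
  have key := exists_open_eq hx h
  choose j V htV hV using key
  have hinj : Function.Injective j := fun i i' hii => by
    by_contra hne
    refine hy i i' hne ⟨t, ?_⟩
    have h1 := congrArg (fun m => m.base (⟨t, htV i⟩ : V i)) (hV i)
    have h2 := congrArg (fun m => m.base (⟨t, htV i'⟩ : V i')) (hV i')
    exact h2.trans (Eq.trans (by rw [hii]; rfl) h1.symm)
  let W : T.left.Opens := ⟨⋂ i, (V i : Set T.left), isOpen_iInter_of_finite fun i => (V i).isOpen⟩
  refine ⟨W, Equiv.ofBijective j ⟨hinj, Finite.surjective_of_injective hinj⟩,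
    Set.mem_iInter.2 fun i => htV i, fun i => ?_⟩
  have hle : W ≤ V i := fun z hz => Set.mem_iInter.1 hz i
  have h1 : (V i).ι ≫ (y i).left = (V i).ι ≫ (x (j i)).left := by
    have := congrArg (fun m => m ≫ pullback.fst f T.hom) (hV i)
    simp only [Category.assoc, sct, pullback.lift_fst] at this
    exact this
  show W.ι ≫ (y i).left = W.ι ≫ (x (j i)).left
  rw [← Scheme.homOfLE_ι _ hle, Category.assoc, Category.assoc, h1]

end Groth.Agent.AlbCurve
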