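import Groth.Agent.AlbCurve.Main

/-!
# Existence of the Albanese variety of a pointed curve
-/

set_option autoImplicit false
set_option maxHeartbeats 1600000
set_option linter.style.haveILetI false
set_option linter.unusedSectionVars false
set_option backward.isDefEq.respectTransparency false
set_option backward.isDefEq.respectTransparency.types false

universe u

open CategoryTheory CategoryTheory.Limits AlgebraicGeometry TopologicalSpace Opposite MonoidalCategory
  CartesianMonoidalCategory MonObj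

noncomputable section

namespace Groth.Agent.AlbCurve

open Groth.Agent Groth.Agent.PicRep
open Groth.Agent.JacVarLib (Pc pullPc cl_out isInvertible_out out ext_val)
open Groth.Agent.GenusOneX (sct sct_proj pt comp_pt)
open scoped Groth.Agent.H23.PicMul

attribute [local instance] Jacobian.curveOver GenusOneX.fibreOver GenusOneX.flat_of_family GenusOneX.lfp_of_family

variable {X S : Scheme.{u}} (f : X ⟶ S) [IsProper f] [SmoothOfRelativeDimension 1 f] [GeometricallyConnected f]
  (σ : S ⟶ X) (hσ : σ ≫ f = 𝟙 S)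

/-- The family of an Abel map. -/
def ajMod : (PicF.XT f (Over.mk f)).Modules :=
  out (ptPc (pt f σ hσ (Over.mk f)) * (ptPc (𝟙 (Over.mk f)))⁻¹)

theorem ok_ajMod : (ModFun.PicDeg f 0).ok (Over.mk f) (ajMod f σ hσ) := by
  refine (ok_iff f).2 ?_
  rw [ajMod, cl_out]
  refine isPicZeroCl_of_mem ?_
  show ((ptPc (pt f σ hσ (Over.mk f)) * (ptPc (𝟙 (Over.mk f)))⁻¹ : Pc _)).1 ∈ GenusOneX.degZero f (Over.mk f)
  rw [Subgroup.coe_mul, InvMemClass.coe_inv, ptPc_val, ptPc_val]
  exact GenusOneX.diffCl_mem f σ hσ (𝟙 (Over.mk f))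

theorem isAJFamilyAt_ajMod : Jac.IsAJFamilyAt f σ (ajMod f σ hσ) := by
  refine ⟨isInvertible_out _, H23.PicMul.cl_eq_iff.1 ((H23.PicMul.cl_tensor _ _).trans ?_)⟩
  show _ = PicF.pullCl (pullback.fst f (Over.mk f).hom) (PicF.cl (ClSub.idealMod σ.ker))
  rw [cl_fst_section f σ hσ (Over.mk f), ajMod, cl_out, Subgroup.coe_mul, Units.val_mul, InvMemClass.coe_inv,
    _root_.mul_assoc]
  conv_rhs => rw [← _root_.mul_one ((ptPc (pt f σ hσ (Over.mk f))).1.val)]
  refine congrArg _ ?_
  rw [show PicF.cl (ClSub.idealMod (pullback.diagonal f).ker) = (ptPc (𝟙 (Over.mk f))).1.val from (toPc_val _ _).symm,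
    Units.inv_mul]

variable {f σ}
include hσ in
theorem exists_abel {J : Over S} (ψ : (ModFun.PicDeg f 0).Hom ⊤ J) :
    ∃ j : Over.mk f ⟶ J, Jac.IsAbelJacobiAt f σ ψ j :=
  ⟨_, trivial, ajMod f σ hσ, ok_ajMod f σ hσ, isAJFamilyAt_ajMod f σ hσ, rfl⟩

end Groth.Agent.AlbCurve
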