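import Groth.Agent.AlbCurve.ThetaSeesaw
import Groth.Prelude.Def_AbDual
import Groth.Prelude.Def_AgPol

/-!
# The pullback of the Mumford sheaf of the theta divisor to the curve
-/

set_option autoImplicit false
set_option maxHeartbeats 1600000
set_option linter.style.haveILetI false
set_option linter.unusedSectionVars false
set_option backward.isDefEq.respectTransparency false
set_option backward.isDefEq.respectTransparency.types false

universe u

open CategoryTheory CategoryTheory.Limits AlgebraicGeometry TopologicalSpace Opposite MonoidalCategory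
  CartesianMonoidalCategory MonObj

noncomputable section

namespace Groth.Agent.AlbCurve

open Groth.Agent Groth.Agent.PicRep
open Groth.Agent.JacVarLib (Pc pullPc pullPc_val pullPc_comp ext_val hz KP cls Os q0)
open Groth.Agent.GenusOneX (sct sct_proj pt comp_pt)
open scoped Groth.Agent.H23.PicMul

attribute [local instance] Jacobian.curveOver GenusOneX.fibreOver GenusOneX.flat_of_family GenusOneX.lfp_of_family

section Maps

variable {k : Type u} [Field k] (J : Over (Spec (CommRingCat.of k)))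

/-- The first projection of the square. -/
def pr1 : PicF.XT J.hom J ⟶ J.left := (fst J J).left

/-- The second projection of the square. -/
def pr2 : PicF.XT J.hom J ⟶ J.left := (snd J J).left

/-- The group law. -/
def mulMap [GrpObj J] : PicF.XT J.hom J ⟶ J.left := μ[J].left

end Maps

variable (k : Type u) [Field k] [IsAlgClosed k] {C : Scheme.{u}} [C.Over (Spec (CommRingCat.of k))]
  [IsProper (C ↘ Spec (CommRingCat.of k))] [SmoothOfRelativeDimension 1 (C ↘ Spec (CommRingCat.of k))]
  [GeometricallyConnected (C ↘ Spec (CommRingCat.of k))] [Smooth (C ↘ Spec (CommRingCat.of k))] [IsIntegral C]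
  (hdim : topologicalKrullDim C = 1)
  {σ : Spec (CommRingCat.of k) ⟶ C} {hσ : σ ≫ C ↘ Spec (CommRingCat.of k) = 𝟙 _}
  {J : Over (Spec (CommRingCat.of k))} [GrpObj J] [IsCommMonObj J]
  {ψ : (ModFun.PicDeg (C ↘ Spec (CommRingCat.of k)) 0).Hom ⊤ J}
  (hJ : Jac.IsJacobian (C ↘ Spec (CommRingCat.of k)) ⊤ J ψ)
  {j : Over.mk (C ↘ Spec (CommRingCat.of k)) ⟶ J}
  (hj : Jac.IsAbelJacobiAt (C ↘ Spec (CommRingCat.of k)) σ ψ j)
  (r : (funct0 (C ↘ Spec (CommRingCat.of k)) σ hσ).RepresentableBy J)
  (hψ : ∀ (T : Over (Spec (CommRingCat.of k))) (E : (PicF.XT (C ↘ Spec (CommRingCat.of k)) T).Modules)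
    (hT : (⊤ : ObjectProperty (Over (Spec (CommRingCat.of k)))) T)
    (h : (ModFun.PicDeg (C ↘ Spec (CommRingCat.of k)) 0).ok T E), ψ.app T E hT h = phi0 r T (PicF.cl E))
  (hmul : ∀ (T : Over (Spec (CommRingCat.of k))) (a b : T ⟶ J),
    val0 (r.homEquiv (a * b)) = val0 (r.homEquiv a) * val0 (r.homEquiv b))

omit [IsAlgClosed k] in
/-- The class of the base point over any base is pulled back from the curve. -/
theorem ptPc_fst (T : Over (Spec (CommRingCat.of k))) (hs : PicF.IsInvertible (ClSub.idealMod σ.ker)) :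
    ptPc (pt (C ↘ Spec (CommRingCat.of k)) σ hσ T) =
      pullPc (pullback.fst (C ↘ Spec (CommRingCat.of k)) T.hom) (JacVarLib.mk _ hs) :=
  ext_val (by rw [pullPc_val, JacVarLib.mk_val, cl_fst_section])

include hψ hmul hJ hj hdim in
/-- Pulled back by `j × (-1)` the Mumford sheaf of the reflected theta divisor is the universal family. -/
theorem lambda_pull {n : ℕ} (hn : Curv2.genus k C = n + 1) {L : Pc J.left}
    (hL : (L⁻¹).1.val = PicF.cl (ClSub.idealMod (Scheme.IdealSheafData.vanishingIdeal (thetaSet k j n 1))))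
    (hL' : PicF.IsInvertible (ClSub.idealMod (Scheme.IdealSheafData.vanishingIdeal (thetaSet k j n 1))))
    {N : Pc (PicF.XT J.hom J)}
    (hN : N * pullPc (pr1 J) L * pullPc (pr2 J) L = pullPc (mulMap J) L) :
    pullPc (PicF.XTmap (C ↘ Spec (CommRingCat.of k)) ((𝟙 J)⁻¹) ≫ AbDual.bcMap j J) N = val0 (r.homEquiv (𝟙 J)) := by
  let f := C ↘ Spec (CommRingCat.of k)
  let Cc : Over (Spec (CommRingCat.of k)) := Over.mk f
  have hjv : ∀ (T : Over (Spec (CommRingCat.of k))) (x : T ⟶ Cc), val0 (r.homEquiv (x ≫ j)) =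
      rho f σ hσ (ptPc (pt f σ hσ T) * (ptPc x)⁻¹) := fun T x => val0_abel r hψ hj x
  let γ' : PicF.XT f J ⟶ PicF.XT J.hom J := PicF.XTmap f ((𝟙 J)⁻¹) ≫ AbDual.bcMap j J
  let i : J.left ⟶ J.left := ((𝟙 J)⁻¹).left
  have hγ : γ' = (lift (fst Cc J ≫ j) (snd Cc J ≫ (𝟙 J)⁻¹)).left := by
    refine pullback.hom_ext ?_ ?_
    · refine Eq.trans ?_ (congrArg CommaMorphism.left (lift_fst (fst Cc J ≫ j) (snd Cc J ≫ (𝟙 J)⁻¹))).symm
      simp only [γ', PicF.XTmap, AbDual.bcMap, Category.assoc, pullback.lift_fst, pullback.lift_fst_assoc,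
        Category.id_comp]
      erw [pullback.lift_fst_assoc]
      simp
      try rfl
    · refine Eq.trans ?_ (congrArg CommaMorphism.left (lift_snd (fst Cc J ≫ j) (snd Cc J ≫ (𝟙 J)⁻¹))).symm
      simp only [γ', PicF.XTmap, AbDual.bcMap, Category.assoc, pullback.lift_snd, pullback.lift_snd_assoc,
        Category.comp_id]
      erw [pullback.lift_snd]
      try rfl
  have h1 : γ' ≫ pr1 J = pullback.fst f J.hom ≫ j.left := by
    rw [hγ]; exact congrArg CommaMorphism.left (lift_fst (fst Cc J ≫ j) (snd Cc J ≫ (𝟙 J)⁻¹))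
  have h2 : γ' ≫ pr2 J = PicF.XTproj f J ≫ i := by
    rw [hγ]; exact congrArg CommaMorphism.left (lift_snd (fst Cc J ≫ j) (snd Cc J ≫ (𝟙 J)⁻¹))
  have h3 : γ' ≫ mulMap J = thetaMap j := by
    rw [hγ]
    refine congrArg CommaMorphism.left (?_ : lift (fst Cc J ≫ j) (snd Cc J ≫ (𝟙 J)⁻¹) ≫ μ[J] = subMap j)
    rw [← Hom.mul_def, subMap, GrpObj.comp_inv, Category.comp_id]
  obtain ⟨m, hm⟩ := theta_family k hdim hJ hj r hψ hmul hn hL hL'
  -- the pullback of the theta divisor to the curve
  have hC : pullPc j.left L = Os k hdim σ hσ ^ (n + 1) := by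
    have h := theta_point k hdim hJ hj r hψ hmul hn hL hL' 1
    rw [JacVarLib.cls_one, _root_.one_mul] at h
    rwa [translMap, inv_one, transl_one, Category.comp_id] at h
  have hs : PicF.IsInvertible (ClSub.idealMod σ.ker) := GenusOneX.isInvertible_ker f hσ
  have hOs : JacVarLib.mk _ hs = (Os k hdim σ hσ)⁻¹ := ext_val (by
    rw [JacVarLib.mk_val]; exact JacVarLib.cl_ker k hdim (Over.homMk σ hσ))
  have hC' : pullPc (pullback.fst f J.hom) (pullPc j.left L) = (ptPc (pt f σ hσ J))⁻¹ ^ (n + 1) := by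
    rw [hC, map_pow, ptPc_fst k J hs, hOs, map_inv, inv_inv]
  -- the twist from the base
  let s : J.left ⟶ PicF.XT f J := PicF.secT f σ hσ J
  have hm' : m = pullPc i L := by
    have hσj : σ ≫ j.left = (1 : 𝟙_ (Over (Spec (CommRingCat.of k))) ⟶ J).left := by
      rw [← pt_abel r hmul hjv (𝟙_ _), Over.comp_left]
      refine congrArg (· ≫ j.left) ?_
      exact (Category.id_comp σ).symm
    have hsΦ : s ≫ thetaMap j = i := by
      let sJ : J ⟶ Cc ⊗ J := lift (toUnit J ≫ Over.homMk σ hσ) (𝟙 J)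
      have hsJ : s = sJ.left := by
        refine pullback.hom_ext ?_ ?_
        · refine (pullback.lift_fst _ _ _).trans ?_
          exact (congrArg CommaMorphism.left (lift_fst (toUnit J ≫ Over.homMk σ hσ : J ⟶ Cc) (𝟙 J))).symm
        · refine (pullback.lift_snd _ _ _).trans ?_
          exact (congrArg CommaMorphism.left (lift_snd (toUnit J ≫ Over.homMk σ hσ : J ⟶ Cc) (𝟙 J))).symm
      rw [hsJ]
      refine congrArg CommaMorphism.left (?_ : sJ ≫ subMap j = (𝟙 J)⁻¹)
      rw [subMap, MonObj.comp_mul, GrpObj.comp_inv, lift_fst_assoc, lift_snd, Category.assoc,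
        show Over.homMk σ hσ ≫ j = (1 : 𝟙_ (Over (Spec (CommRingCat.of k))) ⟶ J) from Over.OverMorphism.ext hσj,
        MonObj.comp_one, _root_.one_mul]
    have h := congrArg (pullPc s) hm
    rw [pullPc_comp, hsΦ, map_mul, map_mul, map_pow, map_inv] at h
    have hu : pullPc s (val0 (r.homEquiv (𝟙 J))) = 1 := mem_RP.1 (val0_mem _).1
    have hp : pullPc s (ptPc (pt f σ hσ J)) = 1 := by
      rw [ptPc_fst k J hs, pullPc_comp, show s ≫ pullback.fst f J.hom = J.hom ≫ σ from pullback.lift_fst _ _ _,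
        ← pullPc_comp, pc_base_eq_one (Ω := k) (pullPc σ _), map_one]
    rw [hu, hp, inv_one, one_pow, _root_.one_mul, _root_.one_mul, pullPc_secT_proj] at h
    exact h.symm
  have h := congrArg (pullPc γ') hN
  rw [map_mul, map_mul, pullPc_comp, pullPc_comp, pullPc_comp, h1, h2, h3, ← pullPc_comp (pullback.fst f J.hom) j.left,
    ← pullPc_comp (PicF.XTproj f J) i] at h
  erw [hC', hm] at h
  rw [hm'] at h
  exact mul_right_cancel (mul_right_cancel h)

end Groth.Agent.AlbCurve
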