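import Groth.Agent.AlbCurve.Abel
import Groth.Agent.Jacobian.Dim
import Groth.Agent.S11992
import Groth.Agent.S11994
import Groth.Agent.S0414
import Groth.Agent.AlbQuotLib.Albanese
import Mathlib.AlgebraicGeometry.Sites.Fpqc

/-!
# The Jacobian of a pointed curve is its Albanese variety
-/

set_option autoImplicit false
set_option maxHeartbeats 1600000
set_option linter.style.haveILetI false
set_option linter.unusedSectionVars false
set_option backward.isDefEq.respectTransparency false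
set_option backward.isDefEq.respectTransparency.types false

universe u

open CategoryTheory CategoryTheory.Limits AlgebraicGeometry TopologicalSpace Opposite MonoidalCategory
  CartesianMonoidalCategory MonObj

noncomputable section

namespace Groth.Agent.AlbCurve

open Groth.Agent Groth.Agent.PicRep
open Groth.Agent.JacVarLib (Pc pullPc)
open Groth.Agent.GenusOneX (sct sct_proj pt comp_pt)
open scoped Groth.Agent.H23.PicMul

attribute [local instance] Jacobian.curveOver GenusOneX.fibreOver GenusOneX.flat_of_family GenusOneX.lfp_of_family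

section General

variable {X S : Scheme.{u}} {f : X ⟶ S} [IsProper f] [SmoothOfRelativeDimension 1 f] [GeometricallyConnected f]

theorem range_sct_comp {T T' : Over S} (g : T' ⟶ T) (P : T ⟶ Over.mk f) :
    Set.range (sct f (g ≫ P)) = PicF.XTmap f g ⁻¹' Set.range (sct f P) := by
  have hc := GenusOneX.comap_ker_section (LineDesc.Rig.isPullback_XTmap g) (sct_proj f P) (sct_proj f (g ≫ P))
    (GenusOneX.sct_comp f g P)
  have h : ((ptI P).comap (PicF.XTmap f g)).support = (ptI (g ≫ P)).support := by rw [show ptI (g ≫ P) = _ from hc.symm]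
  rw [Scheme.IdealSheafData.support_comap] at h
  have h1 : PicF.XTmap f g ⁻¹' ((ptI P).support : Set (PicF.XT f T)) = ((ptI (g ≫ P)).support : Set _) :=
    congrArg (fun s : Closeds (PicF.XT f T') => (s : Set (PicF.XT f T'))) h
  rw [Scheme.Hom.support_ker, Scheme.Hom.support_ker] at h1
  change PicF.XTmap f g ⁻¹' closure (Set.range (sct f P)) = closure (Set.range (sct f (g ≫ P))) at h1
  rwa [(sct f P).isClosedEmbedding.isClosed_range.closure_eq,
    (sct f (g ≫ P)).isClosedEmbedding.isClosed_range.closure_eq, eq_comm] at h1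

theorem distinct_of_pull {T T' : Over S} (g : T' ⟶ T) {n : ℕ} {x : Fin n → (T ⟶ Over.mk f)} {t' : T'.left}
    (h : Distinct (fun i => g ≫ x i) t') : Distinct x (g.left t') := fun i j hij hm => by
  refine h i j hij ?_
  rw [range_sct_comp, Set.mem_preimage, ← Scheme.Hom.comp_apply, GenusOneX.sct_comp]
  exact hm

end General

section Field

variable {k : Type u} [Field k] {C : Scheme.{u}} [C.Over (Spec (CommRingCat.of k))]
  [IsProper (C ↘ Spec (CommRingCat.of k))] [SmoothOfRelativeDimension 1 (C ↘ Spec (CommRingCat.of k))]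
  [GeometricallyConnected (C ↘ Spec (CommRingCat.of k))]

/-- Distinct points over an algebraically closed field. -/
theorem exists_distinct_tuple {Ω : Type u} [Field Ω] [IsAlgClosed Ω]
    (τ : Spec (CommRingCat.of Ω) ⟶ Spec (CommRingCat.of k)) (n : ℕ) :
    ∃ P : Fin n → (Over.mk τ ⟶ Over.mk (C ↘ Spec (CommRingCat.of k))), Distinct P (IsLocalRing.closedPoint Ω) := by
  let f := C ↘ Spec (CommRingCat.of k)
  haveI : LocallyOfFiniteType (PicF.XT f (Over.mk τ) ↘ Spec (CommRingCat.of Ω)) := inferInstance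
  let str := PicF.XT f (Over.mk τ) ↘ Spec (CommRingCat.of Ω)
  let e := (infinite_closedPoints (PicF.XT f (Over.mk τ)) str (Jacobian.curve_dim f τ)).natEmbedding
  let x : Fin n → (Spec (CommRingCat.of Ω) ⟶ PicF.XT f (Over.mk τ)) := fun i => pointOfClosedPoint str (e i.1).1 (e i.1).2
  have hx : ∀ i, x i ≫ str = 𝟙 _ := fun i => pointOfClosedPoint_comp _ _ _
  let P : Fin n → (Over.mk τ ⟶ Over.mk f) := fun i => Over.homMk (x i ≫ pullback.fst f τ)
    (show (x i ≫ pullback.fst f τ) ≫ f = τ by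
      rw [Category.assoc, pullback.condition, ← Category.assoc]
      exact (congrArg (· ≫ τ) (hx i)).trans (Category.id_comp _))
  have hP : ∀ i, sct f (P i) = x i := fun i =>
    pullback.hom_ext (pullback.lift_fst _ _ _) ((pullback.lift_snd _ _ _).trans (hx i).symm)
  refine ⟨P, fun i j hij hm => hij ?_⟩
  obtain ⟨s, hs⟩ := hm
  rw [hP, hP] at hs
  exact Fin.ext (e.injective (Subtype.ext
    ((pointOfClosedPoint_apply str _ _ s).symm.trans (hs.trans (pointOfClosedPoint_apply str _ _ _))))).symm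

variable {σ : Spec (CommRingCat.of k) ⟶ C} (hσ : σ ≫ C ↘ Spec (CommRingCat.of k) = 𝟙 _)
  (hdim : topologicalKrullDim C = 1)
  {J : Over (Spec (CommRingCat.of k))} [GrpObj J] [IsCommMonObj J]
  {ψ : (ModFun.PicDeg (C ↘ Spec (CommRingCat.of k)) 0).Hom ⊤ J}
  (hJ : Jac.IsJacobian (C ↘ Spec (CommRingCat.of k)) ⊤ J ψ)
  {j : Over.mk (C ↘ Spec (CommRingCat.of k)) ⟶ J}
  (hj : Jac.IsAbelJacobiAt (C ↘ Spec (CommRingCat.of k)) σ ψ j)

include hσ hdim hJ hj in
/-- Morphisms from a pointed curve of positive genus to an abelian variety factor uniquely through the Abel map. -/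
theorem existsUnique_hom (hg : 0 < Curv2.genus k C) (A : Over (Spec (CommRingCat.of k))) [GrpObj A] [IsCommMonObj A]
    [IsProper A.hom] [GeometricallyIntegral A.hom]
    (φ : Over.mk (C ↘ Spec (CommRingCat.of k)) ⟶ A) (hφ : σ ≫ φ.left = η[A].left) :
    ∃! χ : J ⟶ A, IsMonHom χ ∧ j ≫ χ = φ := by
  classical
  let f := C ↘ Spec (CommRingCat.of k)
  haveI : Smooth f := SmoothOfRelativeDimension.smooth (n := 1) _
  obtain ⟨⟨r, hψ, hmul⟩, hJp, hJs, hJc, hJi, -⟩ := exists_rep_of_isJacobian hσ hdim hJ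
  haveI := hJp; haveI := hJs; haveI := hJc; haveI := hJi
  haveI : IsIntegral J.left := H23.MaxAbelian.isIntegral_of_geometricallyIntegral
  have hjv : ∀ (T : Over (Spec (CommRingCat.of k))) (x : T ⟶ Over.mk f),
      val0 (r.homEquiv (x ≫ j)) = rho f σ hσ (ptPc (pt f σ hσ T) * (ptPc x)⁻¹) := fun T x => val0_abel r hψ hj x
  have hptφ : ∀ T, pt f σ hσ T ≫ φ = 1 := fun T => by
    refine Over.OverMorphism.ext ?_
    show (T.hom ≫ σ) ≫ φ.left = (toUnit T ≫ η[A]).left
    rw [Category.assoc, hφ]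
    rfl
  obtain ⟨n, hn⟩ : ∃ n, Curv2.genus k C = n + 1 := ⟨_, (Nat.succ_pred_eq_of_pos hg).symm⟩
  obtain ⟨W, ρ, pr, hWp, hWc, hWo, hWs, hlift, -⟩ :=
    Jacobian.exists_power f (𝟙_ (Over (Spec (CommRingCat.of k)))) (n + 1)
  haveI := hWp; haveI := hWc; haveI := hWo; haveI := hWs
  haveI : ConnectedSpace ↥(Spec (CommRingCat.of k)) := inferInstanceAs (ConnectedSpace (PrimeSpectrum k))
  have hW : ρ.left = W.hom := (Category.comp_id _).symm.trans (Over.w ρ)
  haveI : IsProper W.hom := hW ▸ hWp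
  haveI : Smooth W.hom := hW ▸ SmoothOfRelativeDimension.smooth (n := n + 1) ρ.left
  haveI : ConnectedSpace W.left := by
    haveI : GeometricallyConnected W.hom := hW ▸ hWc
    haveI : UniversallyOpen W.hom := hW ▸ hWo
    exact GeometricallyConnected.connectedSpace W.hom W.hom.isOpenMap
  haveI : CompactSpace W.left := QuasiCompact.compactSpace_of_compactSpace W.hom
  haveI : IsIntegral W.left := CurveCohLib.isIntegral_of_smooth_connected W.hom
  haveI : IsLocallyNoetherian W.left := LocallyOfFiniteType.isLocallyNoetherian W.hom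
  let hm : W ⟶ J := ∏ i, pr i ≫ j
  let Φ : W ⟶ A := ∏ i, pr i ≫ φ
  have hlift' : ∀ {T : Over (Spec (CommRingCat.of k))} (P : Fin (n + 1) → (T ⟶ Over.mk f)),
      ∃ x : T ⟶ W, ∀ i, x ≫ pr i = P i := fun {T} P => by
    obtain ⟨x, -, hx⟩ := hlift T (toUnit T) P
    exact ⟨x, hx⟩
  have hcomph : ∀ {T : Over (Spec (CommRingCat.of k))} (x : T ⟶ W), x ≫ hm = ∏ i, (x ≫ pr i) ≫ j := fun x => by
    simp only [hm, comp_prod, Category.assoc]
  have hcompΦ : ∀ {T : Over (Spec (CommRingCat.of k))} (x : T ⟶ W), x ≫ Φ = ∏ i, (x ≫ pr i) ≫ φ := fun x => by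
    simp only [Φ, comp_prod, Category.assoc]
  -- the sum map is surjective
  haveI hsurj : Surjective hm.left := ⟨fun z => by
    obtain ⟨Ω, _, _, τ, a, ha⟩ := exists_geom (S := Spec (CommRingCat.of k)) (T := J) z
    obtain ⟨P, hP⟩ : ∃ P : Fin (n + 1) → (Over.mk τ ⟶ Over.mk f), ∏ i, P i ≫ j = a := by
      rw [← hn]
      exact exists_sum_eq r hmul hjv hdim τ a
    obtain ⟨x, hx⟩ := hlift' P
    refine ⟨x.left (IsLocalRing.closedPoint Ω), ?_⟩
    have h1 : x ≫ hm = a := by rw [hcomph, ← hP]; simp only [hx]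
    rw [← ha, ← h1]
    rfl⟩
  -- the open set of good tuples of distinct points
  let O : W.left.Opens :=
    goodLocus (PicF.XTproj f W) (divC pr) ⊓ ⟨{w | Distinct pr w}, isOpen_distinct pr⟩
  let Ω := AlgebraicClosure k
  let τ : Spec (CommRingCat.of Ω) ⟶ Spec (CommRingCat.of k) := Spec.map (CommRingCat.ofHom (algebraMap k Ω))
  have hO : (O : Set W.left).Nonempty := by
    obtain ⟨P, hP⟩ : ∃ P : Fin (n + 1) → (Over.mk τ ⟶ Over.mk f),
        Good (PicF.XTproj f (Over.mk τ)) (divC P) (IsLocalRing.closedPoint Ω) := by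
      rw [← hn]
      exact exists_good_tuple (σ := σ) (hσ := hσ) hdim τ
    obtain ⟨Q, hQ⟩ := exists_distinct_tuple (C := C) τ (n + 1)
    obtain ⟨x, hx⟩ := hlift' P
    obtain ⟨y, hy⟩ := hlift' Q
    refine nonempty_preirreducible_inter (goodLocus (PicF.XTproj f W) (divC pr)).isOpen (isOpen_distinct pr)
      ⟨x.left (IsLocalRing.closedPoint Ω), ?_⟩ ⟨y.left (IsLocalRing.closedPoint Ω), ?_⟩
    · show Good (PicF.XTproj f W) (divC pr) _
      rw [← good_pull x, pull_divC, funext hx]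
      exact hP
    · show Distinct pr _
      refine distinct_of_pull y ?_
      rw [funext hy]
      exact hQ
  have hagree : ∀ {T : Over (Spec (CommRingCat.of k))} (x y : T ⟶ W), (∀ t, x.left t ∈ O) → (∀ t, y.left t ∈ O) →
      x ≫ hm = y ≫ hm → x ≫ Φ = y ≫ Φ := by
    intro T x y hx hy h
    rw [hcomph, hcomph] at h
    rw [hcompΦ, hcompΦ]
    refine prod_eq_of_prod_eq r hmul hjv φ (x := fun i => x ≫ pr i) (y := fun i => y ≫ pr i)
      (fun t => ⟨?_, distinct_pull x (hx t).2⟩) (fun t => distinct_pull y (hy t).2) h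
    rw [← pull_divC]
    exact (good_pull x _ t).2 (hx t).1
  -- generic flatness
  let p : O.toScheme ⟶ J.left := O.ι ≫ hm.left
  haveI : LocallyOfFiniteType hm.left := by
    haveI : LocallyOfFiniteType (hm.left ≫ J.hom) := by rw [Over.w hm]; infer_instance
    exact locallyOfFiniteType_of_comp hm.left J.hom
  haveI : QuasiCompact p := inferInstance
  haveI : LocallyOfFiniteType p := inferInstance
  obtain ⟨U, hUd, hUf, hUp⟩ := S0414.result p
  haveI := hUf; haveI := hUp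
  let q := p ∣_ U
  let V : U.toScheme.Opens := ⟨Set.range q, q.isOpenMap.isOpen_range⟩
  let q' := q ∣_ V
  haveI : Flat q' := IsZariskiLocalAtTarget.restrict hUf V
  haveI : LocallyOfFinitePresentation q' := IsZariskiLocalAtTarget.restrict hUp V
  haveI : Surjective q' := ⟨fun v => by
    obtain ⟨z, hz⟩ := v.2
    refine ⟨⟨z, show q z ∈ V from ⟨z, rfl⟩⟩, Subtype.ext ?_⟩
    rw [← hz]
    exact morphismRestrict_base_coe q V _⟩
  have hVne : (V : Set U.toScheme).Nonempty := by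
    have hdense : DenseRange p := by
      have h1 : Dense (O : Set W.left) := O.isOpen.dense hO
      have h2 : DenseRange O.ι := by rw [DenseRange, Scheme.Opens.range_ι]; exact h1
      exact hsurj.surj.denseRange.comp h2 hm.left.continuous
    obtain ⟨z, hz⟩ := hdense.exists_mem_open U.isOpen hUd.nonempty
    exact ⟨_, ⟨z, hz⟩, rfl⟩
  let ι' : (q ⁻¹ᵁ V).toScheme ⟶ W.left := (q ⁻¹ᵁ V).ι ≫ (p ⁻¹ᵁ U).ι ≫ O.ι
  have hq' : ι' ≫ hm.left = q' ≫ V.ι ≫ U.ι := by
    show ((q ⁻¹ᵁ V).ι ≫ (p ⁻¹ᵁ U).ι ≫ O.ι) ≫ hm.left = (q ∣_ V) ≫ V.ι ≫ U.ι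
    rw [morphismRestrict_ι_assoc, morphismRestrict_ι]
    simp only [Category.assoc]
    rfl
  have hdesc : ∀ {Z : Scheme.{u}} (g₁ g₂ : Z ⟶ (q ⁻¹ᵁ V).toScheme), g₁ ≫ q' = g₂ ≫ q' →
      g₁ ≫ ι' ≫ Φ.left = g₂ ≫ ι' ≫ Φ.left := by
    intro Z g₁ g₂ h
    have h2 : (g₁ ≫ ι') ≫ hm.left = (g₂ ≫ ι') ≫ hm.left := by
      calc (g₁ ≫ ι') ≫ hm.left = g₁ ≫ (q' ≫ V.ι ≫ U.ι) := (Category.assoc _ _ _).trans (congrArg (g₁ ≫ ·) hq')
        _ = g₂ ≫ (q' ≫ V.ι ≫ U.ι) := by rw [← Category.assoc, h, Category.assoc]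
        _ = (g₂ ≫ ι') ≫ hm.left := (congrArg (g₂ ≫ ·) hq').symm.trans (Category.assoc _ _ _).symm
    let T : Over (Spec (CommRingCat.of k)) := Over.mk ((g₁ ≫ ι') ≫ W.hom)
    let x : T ⟶ W := Over.homMk (g₁ ≫ ι') rfl
    let y : T ⟶ W := Over.homMk (g₂ ≫ ι') (by
      show (g₂ ≫ ι') ≫ W.hom = (g₁ ≫ ι') ≫ W.hom
      rw [← Over.w hm, ← Category.assoc, ← h2, Category.assoc])
    have hmem : ∀ z, ι' z ∈ O := fun z => ((p ⁻¹ᵁ U).ι ((q ⁻¹ᵁ V).ι z)).2
    have := congrArg CommaMorphism.left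
      (hagree x y (fun t => hmem (g₁ t)) (fun t => hmem (g₂ t)) (Over.OverMorphism.ext h2))
    simpa only [Category.assoc] using! this
  let χ₀ : V.toScheme ⟶ A.left := EffectiveEpi.desc q' (ι' ≫ Φ.left) hdesc
  have hχ₀ : q' ≫ χ₀ = ι' ≫ Φ.left := EffectiveEpi.fac _ _ _
  let V' : J.left.Opens := U.ι ''ᵁ V
  let i := U.ι.isoImage V
  have hi : i.hom ≫ V'.ι = V.ι ≫ U.ι := Scheme.Hom.isoImage_hom_ι _ _
  have hV' : (V' : Set J.left).Nonempty := hVne.image _
  obtain ⟨g₀, hg₀w, hg₀⟩ := S11992.result k J.left J.hom A V' hV' (i.inv ≫ χ₀) (by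
    rw [← cancel_epi i.hom, Category.assoc, Iso.hom_inv_id_assoc, reassoc_of% hi, ← cancel_epi q',
      reassoc_of% hχ₀, ← reassoc_of% hq', Over.w Φ, Over.w hm])
  let χ : J ⟶ A := Over.homMk g₀ hg₀w
  have hχ : hm ≫ χ = Φ := by
    haveI : IsDominant ι' := by
      haveI : Nonempty ↥(q ⁻¹ᵁ V).toScheme := by
        obtain ⟨v, hv⟩ := hVne
        obtain ⟨z, hz⟩ := hv
        exact ⟨⟨z, show q z ∈ V from ⟨z, rfl⟩⟩⟩
      exact ⟨(ι'.isOpenEmbedding.isOpen_range.dense (Set.range_nonempty _))⟩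
    refine Over.OverMorphism.ext (ext_of_isDominant_of_isSeparated A.hom ?_ ι' ?_)
    · rw [Over.w, Over.w]
    · show ι' ≫ hm.left ≫ g₀ = ι' ≫ Φ.left
      rw [reassoc_of% hq', ← reassoc_of% hi, hg₀, Iso.hom_inv_id_assoc, hχ₀]
  have hpt : ∀ T, pt f σ hσ T ≫ j = 1 := fun T => pt_abel r hmul hjv T
  have hunit : η[J] ≫ χ = η[A] := by
    obtain ⟨x, hx⟩ := hlift' (T := 𝟙_ _) fun _ => pt f σ hσ _
    have h1 : x ≫ hm = 1 := by rw [hcomph]; simp only [hx, hpt, Finset.prod_const_one]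
    have h2 : x ≫ Φ = 1 := by rw [hcompΦ]; simp only [hx, hptφ, Finset.prod_const_one]
    have h3 : (1 : 𝟙_ (Over (Spec (CommRingCat.of k))) ⟶ J) ≫ χ = 1 := by rw [← h1, Category.assoc, hχ, h2]
    simpa [Hom.one_def] using! h3
  haveI hχm : IsMonHom χ := S11994.result k J A χ hunit
  have hjχ : j ≫ χ = φ := by
    obtain ⟨x, hx⟩ := hlift' (T := Over.mk f) (Fin.cons (𝟙 (Over.mk f)) fun _ => pt f σ hσ _)
    have h1 : x ≫ hm = j := by
      rw [hcomph, Fin.prod_univ_succ, hx, Fin.cons_zero, Category.id_comp]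
      simp only [hx, Fin.cons_succ, hpt, Finset.prod_const_one, _root_.mul_one]
    have h2 : x ≫ Φ = φ := by
      rw [hcompΦ, Fin.prod_univ_succ, hx, Fin.cons_zero, Category.id_comp]
      simp only [hx, Fin.cons_succ, hptφ, Finset.prod_const_one, _root_.mul_one]
    rw [← h1, Category.assoc, hχ, h2]
  refine ⟨χ, ⟨hχm, hjχ⟩, fun χ' ⟨hm', hj'⟩ => ?_⟩
  haveI := hm'
  have h1 : hm ≫ χ' = hm ≫ χ := by
    rw [hχ]
    simp only [hm, Φ, prod_comp, Category.assoc, hj']
  refine Over.OverMorphism.ext (ext_of_isDominant_of_isSeparated A.hom ?_ hm.left ?_)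
  · rw [Over.w, Over.w]
  · exact congrArg CommaMorphism.left h1

end Field

end Groth.Agent.AlbCurve
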