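import Groth.Agent.AlbCurve.SumEtale
import Groth.Agent.JacVarLib.W

/-!
# Tuples of rational points over an algebraically closed field: classes and goodness
-/

set_option autoImplicit false
set_option maxHeartbeats 1600000
set_option linter.style.haveILetI false
set_option linter.unusedSectionVars false
set_option backward.isDefEq.respectTransparency false
set_option backward.isDefEq.respectTransparency.types false

universe u

open CategoryTheory CategoryTheory.Limits AlgebraicGeometry TopologicalSpace Opposite MonoidalCategory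
  CartesianMonoidalCategory MonObj

noncomputable section

namespace Groth.Agent.AlbCurve

open Groth.Agent Groth.Agent.PicRep
open Groth.Agent.JacVarLib (Pc pullPc pullPc_val ext_val out cl_out isInvertible_out dg hz KP q0)
open Groth.Agent.GenusOneX (sct sct_proj idCl idCl_val isInvertible_ker)
open scoped Groth.Agent.H23.PicMul

attribute [local instance] Jacobian.curveOver GenusOneX.fibreOver GenusOneX.flat_of_family GenusOneX.lfp_of_family

variable (k : Type u) [Field k] [IsAlgClosed k] {C : Scheme.{u}} [C.Over (Spec (CommRingCat.of k))]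
  [IsProper (C ↘ Spec (CommRingCat.of k))] [SmoothOfRelativeDimension 1 (C ↘ Spec (CommRingCat.of k))]
  [GeometricallyConnected (C ↘ Spec (CommRingCat.of k))] [Smooth (C ↘ Spec (CommRingCat.of k))] [IsIntegral C]
  (hdim : topologicalKrullDim C = 1)

/-- The class of a rational point is pulled back from the curve. -/
theorem ptPc_rat (P : KP k (Over.mk (C ↘ Spec (CommRingCat.of k)))) :
    ptPc P = pullPc (q0 k) (JacVarLib.O k hdim (JacVarLib.pt k P))⁻¹ := by
  let f := C ↘ Spec (CommRingCat.of k)
  let p : Spec (CommRingCat.of k) ⟶ C := P.left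
  have hp : p ≫ f = 𝟙 _ := Over.w P
  have hc : p.ker.comap (q0 k) = (sct f P).ker :=
    GenusOneX.comap_ker_section (IsPullback.of_hasPullback f (𝟙_ (Over (Spec (CommRingCat.of k)))).hom) hp
      (sct_proj f _) ((pullback.lift_fst _ _ _).trans (Category.id_comp p).symm)
  have hi := isInvertible_ker f hp
  have hi' := isInvertible_ker (PicF.XTproj f _) (sct_proj f P)
  obtain ⟨e⟩ := CurveAlgEqLib.nonempty_pullback_idealMod (q0 k) hi (J := p.ker) (hc ▸ hi')
  refine ext_val ?_
  refine (toPc_val _ _).trans (Eq.trans ?_ (pullPc_val _ _).symm)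
  rw [← JacVarLib.cl_ker k hdim P]
  exact (H23.PicMul.cl_eq_iff.2 ⟨e ≪≫ eqToIso (by rw [hc])⟩).symm

/-- The divisor class of a tuple of rational points. -/
theorem divC_rat {n : ℕ} (x : Fin n → KP k (Over.mk (C ↘ Spec (CommRingCat.of k)))) :
    divC x = pullPc (q0 k) (∏ i, JacVarLib.O k hdim (JacVarLib.pt k (x i))) := by
  rw [divC, Finset.prod_congr rfl fun i _ => ptPc_rat k hdim (x i), ← map_prod, Finset.prod_inv_distrib, map_inv,
    inv_inv]

include hdim in
/-- A divisor of degree the genus is good iff it has one section. -/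
theorem good_rat_iff {n : ℕ} (hn : Curv2.genus k C = n)
    (x : Fin n → KP k (Over.mk (C ↘ Spec (CommRingCat.of k))))
    (t : (𝟙_ (Over (Spec (CommRingCat.of k)))).left) :
    Good (PicF.XTproj (C ↘ Spec (CommRingCat.of k)) (𝟙_ (Over (Spec (CommRingCat.of k))))) (divC x) t ↔
      hz k (∏ i, JacVarLib.O k hdim (JacVarLib.pt k (x i))) = 1 := by
  let f := C ↘ Spec (CommRingCat.of k)
  set v := ∏ i, JacVarLib.O k hdim (JacVarLib.pt k (x i))
  haveI := CurveCohLib.isNoetherian_of_proper (k := k) (X := C)
  let T : Over (Spec (CommRingCat.of k)) := Over.mk (𝟙 (Spec (CommRingCat.of k)))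
  have hpb : IsPullback (q0 k (C := C)) (PicF.XT f T ↘ Spec (CommRingCat.of k)) f
      (Spec.map (CommRingCat.ofHom (algebraMap k k))) := by
    rw [show Spec.map (CommRingCat.ofHom (algebraMap k k)) = 𝟙 _ from Spec.map_id _]
    exact IsPullback.of_hasPullback _ _
  have hq := ProjUPX.isQCoh_of_isInvertible (isInvertible_out v)
  obtain ⟨e⟩ : Nonempty (out (divC x) ≅ (Scheme.Modules.pullback (q0 k)).obj (out v)) := H23.PicMul.cl_eq_iff.1 (by
    show PicF.cl (out (divC x)) = PicF.pullCl _ (PicF.cl (out v))
    rw [cl_out, cl_out, divC_rat k hdim, pullPc_val])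
  have he : Curv2.euler k (PicF.XT f T) (out (divC x)) = Curv2.euler k C (out v) :=
    (CurveCohLib.euler_congr (k := k) e).trans (CurveBC.euler_eq k k _ hpb _ hq)
  have hh : ∀ i, Module.finrank k (Coh.HH (PicF.XT f T) (out (divC x)) i) = Module.finrank k (Coh.HH C (out v) i) :=
    fun i => (CurveCohLib.hhEquiv (k := k) e i).finrank_eq.trans (CurveBC.finrank_hh k k _ hpb _ hq i)
  refine (good_iff f (𝟙 _) (divC x) t).trans ?_
  erw [he, hh 1]
  have hd : dg k v = Curv2.genus k C := by
    rw [JacVarLib.dg_of_eff k hdim ⟨fun i => JacVarLib.pt k (x i), rfl⟩, hn]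
  refine ⟨fun ⟨h1, h2⟩ => ?_, fun h => euler_of_hz k hdim hd h⟩
  rw [CurveRR.euler_eq_h0_sub_h1 k hdim.le (CurveDeg.isCoh_of_isInvertible (isInvertible_out v)).1, h2] at h1
  unfold JacVarLib.hz
  push_cast at h1
  omega

/-- Tuples of rational points with distinct images are distinct. -/
theorem distinct_rat {n : ℕ} {x : Fin n → KP k (Over.mk (C ↘ Spec (CommRingCat.of k)))}
    (hx : Function.Injective fun i => JacVarLib.pt k (x i))
    (t : (𝟙_ (Over (Spec (CommRingCat.of k)))).left) : Distinct x t := by
  intro i l hil hm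
  haveI : Subsingleton ↥(𝟙_ (Over (Spec (CommRingCat.of k)))).left := inferInstanceAs (Subsingleton (PrimeSpectrum k))
  have h1 := congrArg (pullback.fst (C ↘ Spec (CommRingCat.of k)) (𝟙_ (Over (Spec (CommRingCat.of k)))).hom).base
    (sct_eq_of_mem hm)
  rw [← Scheme.Hom.comp_apply, ← Scheme.Hom.comp_apply, sct, sct, pullback.lift_fst, pullback.lift_fst] at h1
  refine hil (hx (Subtype.ext ?_))
  rw [Subsingleton.elim t (IsLocalRing.closedPoint k)] at h1
  exact h1

end Groth.Agent.AlbCurve
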