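import Groth.Agent.AlbCurve.Main
import Groth.Agent.H23.MulEtale

/-!
# The sum map of a curve is etale at good tuples of distinct points
-/

set_option autoImplicit false
set_option maxHeartbeats 1600000
set_option linter.style.haveILetI false
set_option linter.unusedSectionVars false
set_option backward.isDefEq.respectTransparency false
set_option backward.isDefEq.respectTransparency.types false

universe u

open CategoryTheory CategoryTheory.Limits AlgebraicGeometry TopologicalSpace Opposite MonoidalCategory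
  CartesianMonoidalCategory MonObj

noncomputable section

namespace Groth.Agent.AlbCurve

open Groth.Agent Groth.Agent.PicRep
open Groth.Agent.JacVarLib (Pc pullPc)
open Groth.Agent.GenusOneX (sct sct_proj pt comp_pt)
open scoped Groth.Agent.H23.PicMul

attribute [local instance] Jacobian.curveOver GenusOneX.fibreOver GenusOneX.flat_of_family GenusOneX.lfp_of_family

section Diag

/-- A diagonal is an open immersion when the projections agree near it. -/
theorem isOpenImmersion_diagonal_of_agree {X Y : Scheme.{u}} (f : X ⟶ Y)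
    (h : ∀ x : X, ∃ V : (pullback f f).Opens, pullback.diagonal f x ∈ V ∧
      V.ι ≫ pullback.fst f f = V.ι ≫ pullback.snd f f) : IsOpenImmersion (pullback.diagonal f) := by
  choose V hxV hV using h
  let Z : (pullback f f).Opens := ⨆ x, V x
  have hagree : Z.ι ≫ pullback.fst f f = Z.ι ≫ pullback.snd f f := by
    refine (Scheme.openCoverOfIsOpenCover Z.toScheme (fun x => Z.ι ⁻¹ᵁ V x) ?_).hom_ext _ _ fun x => ?_
    · rw [TopologicalSpace.IsOpenCover, eq_top_iff]
      intro z _
      obtain ⟨x, hx⟩ := Opens.mem_iSup.1 z.2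
      exact Opens.mem_iSup.2 ⟨x, hx⟩
    · change (Z.ι ⁻¹ᵁ V x).ι ≫ Z.ι ≫ pullback.fst f f = (Z.ι ⁻¹ᵁ V x).ι ≫ Z.ι ≫ pullback.snd f f
      rw [← morphismRestrict_ι_assoc, ← morphismRestrict_ι_assoc, hV]
  have hrange : Set.range (pullback.diagonal f) ⊆ Set.range Z.ι := by
    rintro _ ⟨x, rfl⟩
    rw [Scheme.Opens.range_ι]
    exact Opens.mem_iSup.2 ⟨x, hxV x⟩
  let e := IsOpenImmersion.lift Z.ι (pullback.diagonal f) hrange
  have he : e ≫ Z.ι = pullback.diagonal f := IsOpenImmersion.lift_fac _ _ _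
  have h1 : e ≫ (Z.ι ≫ pullback.fst f f) = 𝟙 X := by rw [← Category.assoc, he, pullback.diagonal_fst]
  have h2 : (Z.ι ≫ pullback.fst f f) ≫ e = 𝟙 _ := by
    rw [← cancel_mono Z.ι, Category.assoc, he, Category.id_comp]
    refine pullback.hom_ext ?_ ?_
    · rw [Category.assoc, pullback.diagonal_fst, Category.comp_id]
    · rw [Category.assoc, pullback.diagonal_snd, Category.comp_id, hagree]
  haveI : IsIso e := ⟨Z.ι ≫ pullback.fst f f, h1, h2⟩
  rw [← he]
  infer_instance

end Diag

section Rank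

/-- The rank of differentials of a smooth scheme of given relative dimension. -/
theorem rk_eq {X S : Scheme.{u}} (p : X ⟶ S) (n : ℕ) [SmoothOfRelativeDimension n p] (x : X) :
    H23.MulEtale.rk p x = n := by
  obtain ⟨U, hU, V, hV, hx, e, hs⟩ :=
    SmoothOfRelativeDimension.exists_isStandardSmoothOfRelativeDimension (n := n) (f := p) x
  letI := (p.appLE U V e).hom.toAlgebra
  haveI : Algebra.IsStandardSmoothOfRelativeDimension n Γ(S, U) Γ(X, V) := hs
  haveI : Nonempty V := ⟨⟨x, hx⟩⟩
  rw [H23.MulEtale.rk_eq_finrank p hU hV e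
    (Algebra.IsStandardSmoothOfRelativeDimension.isStandardSmooth n (R := Γ(S, U)) (S := Γ(X, V))) hx]
  exact Module.finrank_eq_of_rank_eq (Algebra.IsStandardSmoothOfRelativeDimension.rank_kaehlerDifferential n)

end Rank

section Field

variable {k : Type u} [Field k] {C : Scheme.{u}} [C.Over (Spec (CommRingCat.of k))]
  [IsProper (C ↘ Spec (CommRingCat.of k))] [SmoothOfRelativeDimension 1 (C ↘ Spec (CommRingCat.of k))]
  [GeometricallyConnected (C ↘ Spec (CommRingCat.of k))]
  {σ : Spec (CommRingCat.of k) ⟶ C} {hσ : σ ≫ C ↘ Spec (CommRingCat.of k) = 𝟙 _}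
  {J : Over (Spec (CommRingCat.of k))} [GrpObj J] [IsCommMonObj J]
  (r : (funct0 (C ↘ Spec (CommRingCat.of k)) σ hσ).RepresentableBy J)
  (hmul : ∀ (T : Over (Spec (CommRingCat.of k))) (a b : T ⟶ J),
    val0 (r.homEquiv (a * b)) = val0 (r.homEquiv a) * val0 (r.homEquiv b))
  {j : Over.mk (C ↘ Spec (CommRingCat.of k)) ⟶ J}
  (hj : ∀ (T : Over (Spec (CommRingCat.of k))) (x : T ⟶ Over.mk (C ↘ Spec (CommRingCat.of k))),
    val0 (r.homEquiv (x ≫ j)) =
      rho (C ↘ Spec (CommRingCat.of k)) σ hσ (ptPc (pt (C ↘ Spec (CommRingCat.of k)) σ hσ T) * (ptPc x)⁻¹))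

/-- The tuples of distinct points with a good divisor. -/
abbrev goodDistinct {W : Over (Spec (CommRingCat.of k))} {n : ℕ}
    (pr : Fin n → (W ⟶ Over.mk (C ↘ Spec (CommRingCat.of k)))) : W.left.Opens :=
  goodLocus (PicF.XTproj (C ↘ Spec (CommRingCat.of k)) W) (divC pr) ⊓ ⟨{w | Distinct pr w}, isOpen_distinct pr⟩

include r hmul hj in
/-- The sum map is etale on tuples of distinct points with a good divisor. -/
theorem etale_sum {W : Over (Spec (CommRingCat.of k))} {g n : ℕ} [Smooth J.hom]
    [SmoothOfRelativeDimension g J.hom] [SmoothOfRelativeDimension g W.hom]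
    (pr : Fin (n + 1) → (W ⟶ Over.mk (C ↘ Spec (CommRingCat.of k))))
    (hext : ∀ {T : Over (Spec (CommRingCat.of k))} (x y : T ⟶ W), (∀ i, x ≫ pr i = y ≫ pr i) → x = y) :
    Etale ((goodDistinct pr).ι ≫ (∏ i, pr i ≫ j).left) := by
  classical
  let O := goodDistinct pr
  let hm : W ⟶ J := ∏ i, pr i ≫ j
  let p : O.toScheme ⟶ J.left := O.ι ≫ hm.left
  haveI : SmoothOfRelativeDimension g (O.ι ≫ W.hom) := by
    simpa using (inferInstance : SmoothOfRelativeDimension (0 + g) (O.ι ≫ W.hom))
  haveI : Smooth (O.ι ≫ W.hom) := SmoothOfRelativeDimension.smooth (n := g) _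
  have hcomph : ∀ {T : Over (Spec (CommRingCat.of k))} (x : T ⟶ W), x ≫ hm = ∏ i, (x ≫ pr i) ≫ j := fun x => by
    simp only [hm, comp_prod, Category.assoc]
  let T : Over (Spec (CommRingCat.of k)) := Over.mk ((pullback.fst p p ≫ O.ι) ≫ W.hom)
  let x : T ⟶ W := Over.homMk (pullback.fst p p ≫ O.ι) rfl
  let y : T ⟶ W := Over.homMk (pullback.snd p p ≫ O.ι) (by
    show (pullback.snd p p ≫ O.ι) ≫ W.hom = (pullback.fst p p ≫ O.ι) ≫ W.hom
    rw [← Over.w hm]
    simpa only [p, Category.assoc] using (congrArg (· ≫ J.hom) (pullback.condition (f := p) (g := p))).symm)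
  let a := fun i => x ≫ pr i
  let b := fun i => y ≫ pr i
  have hsum : ∏ i, a i ≫ j = ∏ i, b i ≫ j := by
    rw [← hcomph, ← hcomph]
    refine Over.OverMorphism.ext ?_
    show (pullback.fst p p ≫ O.ι) ≫ hm.left = (pullback.snd p p ≫ O.ι) ≫ hm.left
    rw [Category.assoc, Category.assoc]
    exact pullback.condition
  have ha : ∀ t, Good (PicF.XTproj (C ↘ Spec (CommRingCat.of k)) T) (divC a) t ∧ Distinct a t := fun t => by
    refine ⟨?_, distinct_pull x (pullback.fst p p t).2.2⟩
    rw [show divC a = pullPc _ (divC pr) from (pull_divC x pr).symm]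
    exact (good_pull x _ t).2 (pullback.fst p p t).2.1
  have hb : ∀ t, Distinct b t := fun t => distinct_pull y (pullback.snd p p t).2.2
  obtain ⟨m, hmm⟩ := exists_divC_eq r hmul hj hsum
  have hI := divI_eq (fun t => (ha t).1) hmm
  haveI : IsOpenImmersion (pullback.diagonal p) := by
    refine isOpenImmersion_diagonal_of_agree p fun o => ?_
    obtain ⟨V, π, ht, hV⟩ := exists_open_match (ha (pullback.diagonal p o)).2 (hb _) hI
    let T₀ : Over (Spec (CommRingCat.of k)) := Over.mk (O.ι ≫ W.hom)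
    let δ : T₀ ⟶ T := Over.homMk (pullback.diagonal p) (by
      show pullback.diagonal p ≫ (pullback.fst p p ≫ O.ι) ≫ W.hom = _
      rw [Category.assoc, pullback.diagonal_fst_assoc]
      rfl)
    have hδ : ∀ i, δ ≫ a i = δ ≫ b i := fun i => by
      simp only [a, b, ← Category.assoc]
      refine congrArg (· ≫ pr i) (Over.OverMorphism.ext ?_)
      show pullback.diagonal p ≫ pullback.fst p p ≫ O.ι = pullback.diagonal p ≫ pullback.snd p p ≫ O.ι
      rw [pullback.diagonal_fst_assoc, pullback.diagonal_snd_assoc]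
    have hd : Distinct (fun i => δ ≫ a i) o := distinct_pull δ (ha (δ.left o)).2
    have hπ : ∀ i, π i = i := fun i => by
      by_contra hne
      let V' : T₀.left.Opens := pullback.diagonal p ⁻¹ᵁ V
      have e : V'.ι ≫ sct (C ↘ Spec (CommRingCat.of k)) (δ ≫ a i) =
          V'.ι ≫ sct (C ↘ Spec (CommRingCat.of k)) (δ ≫ a (π i)) := by
        refine pullback.hom_ext ?_ (by simp only [Category.assoc, sct, pullback.lift_snd])
        simp only [Category.assoc, sct, pullback.lift_fst]
        rw [hδ]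
        show V'.ι ≫ pullback.diagonal p ≫ (b i).left = V'.ι ≫ pullback.diagonal p ≫ (a (π i)).left
        rw [← morphismRestrict_ι_assoc, ← morphismRestrict_ι_assoc, hV]
      exact hd i (π i) (Ne.symm hne) ⟨o, (congrArg (fun m => m.base (⟨o, ht⟩ : V')) e).symm⟩
    refine ⟨V, ht, ?_⟩
    have hz : ∀ i, V.ι ≫ (a i).left = V.ι ≫ (b i).left := fun i => by
      rw [hV i, hπ i]
    let c : Over.mk (V.ι ≫ T.hom) ⟶ T := Over.homMk V.ι rfl
    have hxy : c ≫ x = c ≫ y := hext _ _ fun i => by
      rw [Category.assoc, Category.assoc]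
      exact Over.OverMorphism.ext (hz i)
    have := congrArg CommaMorphism.left hxy
    rw [← cancel_mono O.ι, Category.assoc, Category.assoc]
    exact this
  refine H23.MulEtale.etale_of_rk_eq (O.ι ≫ W.hom) p J.hom ?_ fun o => ?_
  · show (O.ι ≫ hm.left) ≫ J.hom = _
    rw [Category.assoc, Over.w]
  · rw [rk_eq (O.ι ≫ W.hom) g, rk_eq J.hom g]

end Field

end Groth.Agent.AlbCurve
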