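import Groth.Agent.AlbCurve.LambdaPull

/-!
# The theta locus of a class of degree `g - 1` is a translate of the reflected image of the symmetric power
-/

set_option autoImplicit false
set_option maxHeartbeats 1600000
set_option linter.style.haveILetI false
set_option linter.unusedSectionVars false
set_option backward.isDefEq.respectTransparency false
set_option backward.isDefEq.respectTransparency.types false

universe u

open CategoryTheory CategoryTheory.Limits AlgebraicGeometry TopologicalSpace Opposite MonoidalCategory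
  CartesianMonoidalCategory MonObj

noncomputable section

namespace Groth.Agent.AlbCurve

open Groth.Agent Groth.Agent.PicRep
open Groth.Agent.JacVarLib (Pc pullPc pullPc_val pullPc_comp ext_val out cl_out isInvertible_out hz dg KP img sm cls Os q0)
open Groth.Agent.GenusOneX (sct sct_proj pt comp_pt)
open scoped Groth.Agent.H23.PicMul

attribute [local instance] Jacobian.curveOver GenusOneX.fibreOver GenusOneX.flat_of_family GenusOneX.lfp_of_family

variable (k : Type u) [Field k] [IsAlgClosed k] {C : Scheme.{u}} [C.Over (Spec (CommRingCat.of k))]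
  [IsProper (C ↘ Spec (CommRingCat.of k))] [SmoothOfRelativeDimension 1 (C ↘ Spec (CommRingCat.of k))]
  [GeometricallyConnected (C ↘ Spec (CommRingCat.of k))] [Smooth (C ↘ Spec (CommRingCat.of k))] [IsIntegral C]
  (hdim : topologicalKrullDim C = 1)
  {σ : Spec (CommRingCat.of k) ⟶ C} {hσ : σ ≫ C ↘ Spec (CommRingCat.of k) = 𝟙 _}
  {J : Over (Spec (CommRingCat.of k))} [GrpObj J] [IsCommMonObj J]
  {ψ : (ModFun.PicDeg (C ↘ Spec (CommRingCat.of k)) 0).Hom ⊤ J}
  (hJ : Jac.IsJacobian (C ↘ Spec (CommRingCat.of k)) ⊤ J ψ)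
  {j : Over.mk (C ↘ Spec (CommRingCat.of k)) ⟶ J}
  (hj : Jac.IsAbelJacobiAt (C ↘ Spec (CommRingCat.of k)) σ ψ j)
  (r : (funct0 (C ↘ Spec (CommRingCat.of k)) σ hσ).RepresentableBy J)
  (hψ : ∀ (T : Over (Spec (CommRingCat.of k))) (E : (PicF.XT (C ↘ Spec (CommRingCat.of k)) T).Modules)
    (hT : (⊤ : ObjectProperty (Over (Spec (CommRingCat.of k)))) T)
    (h : (ModFun.PicDeg (C ↘ Spec (CommRingCat.of k)) 0).ok T E), ψ.app T E hT h = phi0 r T (PicF.cl E))
  (hmul : ∀ (T : Over (Spec (CommRingCat.of k))) (a b : T ⟶ J),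
    val0 (r.homEquiv (a * b)) = val0 (r.homEquiv a) * val0 (r.homEquiv b))

omit [IsAlgClosed k] in
theorem rho_geom {Ω : Type u} [Field Ω] (τ : Spec (CommRingCat.of Ω) ⟶ Spec (CommRingCat.of k))
    (v : Pc (PicF.XT (C ↘ Spec (CommRingCat.of k)) (Over.mk τ))) :
    rho (C ↘ Spec (CommRingCat.of k)) σ hσ v = v := by
  rw [rho, show pullPc (PicF.secT (C ↘ Spec (CommRingCat.of k)) σ hσ (Over.mk τ)) v = 1 from
    pc_base_eq_one (Ω := Ω) _, map_one, inv_one, _root_.mul_one]

include hdim hψ hmul hJ hj in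
/-- The point of a class over an algebraically closed field, in terms of the class. -/
theorem val0_geom {Ω : Type u} [Field Ω] [IsAlgClosed Ω] (τ : Spec (CommRingCat.of Ω) ⟶ Spec (CommRingCat.of k))
    (c : KP k J) :
    val0 (r.homEquiv (toUnit (Over.mk τ) ≫ c)) =
      pullPc (pullback.fst (C ↘ Spec (CommRingCat.of k)) τ) (cls k hdim hJ c) := by
  rw [r.homEquiv_comp, val0_map, val0_rat k hdim hJ hj r hψ hmul c, pullPc_comp]
  exact congrArg (fun m => pullPc m (cls k hdim hJ c)) (LineDesc.Rig.XTmap_fst _)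

include hdim hσ hψ hmul hJ hj in
/-- The theta locus of a class of degree `g - 1` is a translate of the reflected image of the symmetric power, by
the point of the residual class. -/
theorem exists_thetaLocus_eq' {n : ℕ} (hn : Curv2.genus k C = n + 1) {N : C.Modules} (hN : PicF.IsInvertible N)
    (hNdeg : Curv2.deg k C N 1 = n) :
    ∃ a : KP k J, cls k hdim hJ a = JacVarLib.om k hdim / (JacVarLib.mk N hN * Os k hdim σ hσ ^ n) ∧
      Jac.thetaLocus (C ↘ Spec (CommRingCat.of k)) 0 ψ N = (thetaSet k j n a : Set J.left) := by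
  classical
  let f := C ↘ Spec (CommRingCat.of k)
  haveI := JacVarLib.isSeparated_J k (J := J)
  let cp : ↥(Spec (CommRingCat.of k)) := IsLocalRing.closedPoint k
  set vN : Pc C := JacVarLib.mk N hN with hvN
  set S : Pc C := Os k hdim σ hσ with hS
  have hdN : dg k vN = n := by rw [hvN, JacVarLib.dg_mk k N hN, hNdeg]
  obtain ⟨a, ha⟩ := JacVarLib.exists_cls k hdim hJ (v := JacVarLib.om k hdim / (vN * S ^ n)) (by
    rw [JacVarLib.dg_div k hdim, JacVarLib.dg_om, JacVarLib.dg_mul k hdim, JacVarLib.dg_pow k hdim, JacVarLib.dg_O, hdN, hn]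
    push_cast; ring)
  have hmem : ∀ b : KP k J, img k b ∈ (thetaSet k j n a : Set J.left) ↔ 0 < hz k (cls k hdim hJ b * vN) := by
    intro b
    rw [mem_thetaSet k hdim hσ hJ hj, ha]
    have hrr := JacVarLib.rr k hdim (cls k hdim hJ b * vN)
    rw [JacVarLib.dg_mul k hdim, JacVarLib.dg_cls, hdN, hn] at hrr
    rw [show JacVarLib.om k hdim / (vN * S ^ n) / cls k hdim hJ b * S ^ n =
      JacVarLib.om k hdim / (cls k hdim hJ b * vN) by cgroup]
    push_cast at hrr
    omega
  refine ⟨a, ha, Set.Subset.antisymm (closure_minimal ?_ (thetaSet k j n a).isClosed) ?_⟩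
  · -- geometric points of the jump locus
    rintro _ ⟨Ω, _, _, τ, hT, L, hL, hsec, p, rfl⟩
    let T : Over (Spec (CommRingCat.of k)) := Over.mk τ
    haveI : Smooth f := inferInstance
    haveI := CurveCohLib.isNoetherian_of_proper (k := Ω) (X := PicF.XT f T)
    haveI : GeometricallyConnected (PicF.XT f T ↘ Spec (CommRingCat.of Ω)) :=
      inferInstanceAs (GeometricallyConnected (pullback.snd f τ))
    have hdimC := Jacobian.curve_dim f τ
    have hLi : PicF.IsInvertible L := invertible_of_ok hL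
    set vL : Pc (PicF.XT f T) := toPc (PicF.cl L) ⟨L, rfl, hLi⟩ with hvL
    let x : T ⟶ J := ψ.app T L hT hL
    have hx : val0 (r.homEquiv x) = vL := by
      rw [show x = phi0 r T (PicF.cl L) from hψ T L hT hL, val0_phi0_cl r hL, rho_geom]
    let g : PicF.XT f T ⟶ C := pullback.fst f τ
    let w : Pc (PicF.XT f T) := vL * pullPc g vN
    obtain ⟨e⟩ : Nonempty (CohB1.tensorMod L ((Scheme.Modules.pullback g).obj N) ≅ out w) := H23.PicMul.cl_eq_iff.1 (by
      rw [H23.PicMul.cl_tensor, cl_out, Subgroup.coe_mul, Units.val_mul, toPc_val, pullPc_val, hvN, JacVarLib.mk_val]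
      rfl)
    have hw0 : 0 < hz Ω w := by
      haveI := CurveCohLib.finite_HH (k := Ω) (CurveDeg.isCoh_of_isInvertible (isInvertible_out w)) 0
      unfold JacVarLib.hz
      by_contra h0
      have : Subsingleton (Coh.HH (PicF.XT f T) (out w) 0) := Module.finrank_zero_iff.1 (Nat.eq_zero_of_not_pos h0)
      exact hsec (QCoh.subsingleton_HH_of_iso e.symm 0 this)
    letI : Algebra k Ω := (Spec.preimage τ).hom.toAlgebra
    haveI := CurveCohLib.isNoetherian_of_proper (k := k) (X := C)
    have hpb : IsPullback g (PicF.XT f T ↘ Spec (CommRingCat.of Ω)) f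
        (Spec.map (CommRingCat.ofHom (algebraMap k Ω))) := by
      rw [show Spec.map (CommRingCat.ofHom (algebraMap k Ω)) = τ from Spec.map_preimage _]
      exact IsPullback.of_hasPullback f τ
    have hdegN : dg Ω (pullPc g vN) = dg k vN := by
      unfold JacVarLib.dg
      obtain ⟨e'⟩ : Nonempty (out (pullPc g vN) ≅ (Scheme.Modules.pullback g).obj (out vN)) := H23.PicMul.cl_eq_iff.1 (by
        show PicF.cl (out (pullPc g vN)) = PicF.pullCl g (PicF.cl (out vN))
        rw [cl_out, cl_out, pullPc_val])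
      exact (CurveRR.deg_congr Ω e' 1).trans
        (CurveBC.deg_eq k Ω g hpb _ (ProjUPX.isQCoh_of_isInvertible (isInvertible_out vN)) 1)
    have hdL : dg Ω vL = 0 := by
      have h := val0_mem (r.homEquiv x)
      rw [hx] at h
      exact (deg_eq_dg f τ vL p).symm.trans (mem_PZ.1 h.2 p)
    have hdw : dg Ω w = n := by rw [JacVarLib.dg_mul Ω hdimC, hdL, hdegN, hdN, zero_add]
    obtain ⟨z, hz'⟩ := JacVarLib.eff_of_hz_pos Ω hdimC hdw hw0
    choose P hP using fun i => Jacobian.exists_point_of_closed f τ (z i).2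
    have hP' : ∀ i, ptPc (P i) = (JacVarLib.O Ω hdimC (z i))⁻¹ := fun i => by
      refine ext_val ?_
      rw [JacVarLib.O_inv_val, ptPc_val]
      exact hP i
    have hdivC : divC P = w := by
      rw [divC, Finset.prod_congr rfl fun i _ => hP' i, Finset.prod_inv_distrib, inv_inv, hz']
    obtain ⟨c, hc⟩ := JacVarLib.exists_cls k hdim hJ (v := vN / S ^ n) (by
      rw [JacVarLib.dg_div k hdim, JacVarLib.dg_pow k hdim, JacVarLib.dg_O, hdN]; push_cast; ring)
    have hjv : ∀ (T : Over (Spec (CommRingCat.of k))) (x : T ⟶ Over.mk f), val0 (r.homEquiv (x ≫ j)) =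
        rho f σ hσ (ptPc (pt f σ hσ T) * (ptPc x)⁻¹) := fun T x => val0_abel r hψ hj x
    let y : T ⟶ JacVarLib.PW k n := Over.homMk
      (WidePullback.lift τ (fun i => (P i).left) fun i => Over.w (P i)) (WidePullback.lift_base _ _ _ _)
    have hys : y ≫ sm k j n = x * (toUnit T ≫ c) := by
      have h1 : y ≫ sm k j n = ∏ i, P i ≫ j := by
        rw [JacVarLib.sm, List.prod_ofFn, comp_prod]
        refine Finset.prod_congr rfl fun i _ => ?_
        rw [← Category.assoc]
        exact congrArg (· ≫ j) (Over.OverMorphism.ext (WidePullback.lift_π _ _ _ _ _))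
      rw [h1]
      refine valHom_injective r hmul T ?_
      rw [valHom_prod r hmul hjv, map_mul]
      show _ = val0 (r.homEquiv x) * val0 (r.homEquiv (toUnit T ≫ c))
      rw [rho_geom, hx, val0_geom k hdim hJ hj r hψ hmul τ c, hc, hdivC]
      have hpt : ptPc (pt f σ hσ T) = pullPc g S⁻¹ := by
        rw [ptPc_fst k T (GenusOneX.isInvertible_ker f hσ)]
        refine congrArg (pullPc g) (ext_val ?_)
        rw [JacVarLib.mk_val]
        exact JacVarLib.cl_ker k hdim (Over.homMk σ hσ)
      rw [hpt, map_div, map_pow, map_inv]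
      simp only [w]
      rw [inv_pow, div_eq_mul_inv]
      ac_rfl
    have hsub : Set.range (sm k j n ≫ Jac.transl J c⁻¹).left.base ⊆ (thetaSet k j n a : Set J.left) := by
      refine JacVarLib.subset_of_kp k (sm k j n ≫ Jac.transl J c⁻¹) (JacVarLib.isClosed_range k _)
        (thetaSet k j n a).isClosed subset_rfl fun b hb => (hmem b).2 ?_
      rw [← JacVarLib.translate_range k j, JacVarLib.mem_transl_iff k hdim σ hσ hJ hj, JacVarLib.Mem,
        JacVarLib.cls_inv, hc] at hb
      rwa [show cls k hdim hJ b / (vN / S ^ n)⁻¹ * S ^ n = cls k hdim hJ b * vN by cgroup] at hb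
    refine hsub ⟨y.left p, ?_⟩
    show ((y ≫ (sm k j n ≫ Jac.transl J c⁻¹)).left) p = x.left p
    rw [← Category.assoc, JacVarLib.kp_comp_transl, hys, _root_.mul_assoc, ← MonObj.comp_mul, mul_inv_cancel,
      MonObj.comp_one, _root_.mul_one]
  · -- rational points
    rw [coe_thetaSet]
    refine JacVarLib.subset_of_kp k _ (JacVarLib.isClosed_range k _) isClosed_closure subset_rfl fun b hb => ?_
    rw [← coe_thetaSet, hmem] at hb
    refine subset_closure ⟨k, inferInstance, inferInstance, 𝟙 _, trivial, JacVarLib.upMod k (cls k hdim hJ b),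
      JacVarLib.ok_of k (JacVarLib.dg_cls k hdim hJ b) (JacVarLib.cl_upMod k _), ?_, cp, ?_⟩
    · intro hss
      let T : Over (Spec (CommRingCat.of k)) := Over.mk (𝟙 (Spec (CommRingCat.of k)))
      haveI := CurveCohLib.isNoetherian_of_proper (k := k) (X := C)
      obtain ⟨e⟩ : Nonempty (CohB1.tensorMod (JacVarLib.upMod k (cls k hdim hJ b))
          ((Scheme.Modules.pullback (pullback.fst f (𝟙 _))).obj N) ≅
          (Scheme.Modules.pullback (q0 k)).obj (out (cls k hdim hJ b * vN))) := H23.PicMul.cl_eq_iff.1 (by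
        rw [H23.PicMul.cl_tensor, JacVarLib.cl_upMod]
        show PicF.pullCl (q0 k) (cls k hdim hJ b).1.val * PicF.pullCl (q0 k) (PicF.cl N) =
          PicF.pullCl (q0 k) (PicF.cl (out (cls k hdim hJ b * vN)))
        rw [← H23.PicMul.pullCl_mul, cl_out, Subgroup.coe_mul, Units.val_mul, hvN, JacVarLib.mk_val])
      have hpb : IsPullback (q0 k (C := C)) (PicF.XT f T ↘ Spec (CommRingCat.of k)) f
          (Spec.map (CommRingCat.ofHom (algebraMap k k))) := by
        rw [show Spec.map (CommRingCat.ofHom (algebraMap k k)) = 𝟙 _ from Spec.map_id _]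
        exact IsPullback.of_hasPullback _ _
      have h1 := CurveBC.finrank_hh k k (q0 k (C := C)) hpb (out (cls k hdim hJ b * vN))
        (ProjUPX.isQCoh_of_isInvertible (isInvertible_out _)) 0
      haveI : Subsingleton (Coh.HH (PicF.XT f (𝟙_ (Over (Spec (CommRingCat.of k))))) ((Scheme.Modules.pullback (q0 k)).obj (out (cls k hdim hJ b * vN))) 0) :=
        QCoh.subsingleton_HH_of_iso e 0 hss
      rw [Module.finrank_zero_of_subsingleton] at h1
      unfold JacVarLib.hz at hb
      omega
    · show (ψ.app (𝟙_ _) (JacVarLib.upMod k (cls k hdim hJ b)) _ _).left cp = img k b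
      refine congrArg (img k) ?_
      show JacVarLib.th k hdim ψ ⟨cls k hdim hJ b, JacVarLib.dg_cls k hdim hJ b⟩ = b
      rw [← JacVarLib.theta_apply k hdim hJ]
      exact (JacVarLib.theta k hdim hJ).apply_symm_apply b

include hdim hσ hψ hmul hJ hj in
/-- The theta locus of a class of degree `g - 1` is a translate of the reflected image of the symmetric power. -/
theorem exists_thetaLocus_eq {n : ℕ} (hn : Curv2.genus k C = n + 1) {N : C.Modules} (hN : PicF.IsInvertible N)
    (hNdeg : Curv2.deg k C N 1 = n) :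
    ∃ a : KP k J, Jac.thetaLocus (C ↘ Spec (CommRingCat.of k)) 0 ψ N = (thetaSet k j n a : Set J.left) :=
  let ⟨a, _, ha⟩ := exists_thetaLocus_eq' k hdim hJ hj r hψ hmul hn hN hNdeg
  ⟨a, ha⟩

end Groth.Agent.AlbCurve
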