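import Groth.Agent.AlbCurve.ThetaLam
import Groth.Agent.AlbCurve.ThetaLocus
import Groth.Agent.AlbCurve.Exists
import Groth.Agent.AVDualExist.Exists
import Groth.Agent.AVEuler.AmpleVanishing
import Groth.Agent.Lib.AVAmple

/-!
# The theta divisor over an algebraically closed field is a principal ample divisor
-/

set_option autoImplicit false
set_option maxHeartbeats 1600000
set_option linter.style.haveILetI false
set_option linter.unusedSectionVars false
set_option backward.isDefEq.respectTransparency false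
set_option backward.isDefEq.respectTransparency.types false

universe u

open CategoryTheory CategoryTheory.Limits AlgebraicGeometry TopologicalSpace Opposite MonoidalCategory
  CartesianMonoidalCategory MonObj

noncomputable section

namespace Groth.Agent.AlbCurve

open Groth.Agent Groth.Agent.PicRep Groth.Agent.AVPair Groth.Agent.AVDual
open Groth.Agent.JacVarLib (Pc pullPc pullPc_val pullPc_comp ext_val hz KP cls Os)
open scoped Groth.Agent.H23.PicMul

attribute [local instance] Jacobian.curveOver GenusOneX.fibreOver GenusOneX.flat_of_family GenusOneX.lfp_of_family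

section Fix

variable {k : Type u} [Field k] {A : Over (Spec (CommRingCat.of k))} [GrpObj A] [IsProper A.hom]
  [GeometricallyIntegral A.hom] {At : Over (Spec (CommRingCat.of k))} [GrpObj At] [IsProper At.hom]
  [GeometricallyIntegral At.hom]
  {φ : AgPol.DualMap A At} (hφ : AbDual.IsDualAV Scheme.fppfPrecoverage A At φ)

include hφ in
/-- When the homomorphism of a class is injective on points, only the origin fixes the class. -/
theorem eq_one_of_fix {l d : PicF.Cl A.left} (hl : PicF.IsInvertibleCl l) (hld : l * d = 1)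
    [Mono (φ A (AVField.mum l d))] (a : 𝟙_ (Over (Spec (CommRingCat.of k))) ⟶ A)
    (ha : pl (𝟙 A * (toUnit A ≫ a)) l = l) : a = 1 := by
  obtain ⟨P, -, hξ⟩ := AVField.exists_poincare' hφ
  have hlam := AVField.pl_poincare_mum hφ hξ hl hld
  have key : ∀ x : 𝟙_ (Over (Spec (CommRingCat.of k))) ⟶ A, pl (𝟙 A * (toUnit A ≫ x)) l = l →
      x ≫ φ A (AVField.mum l d) = φ _ (1 : PicF.Cl (A ⊗ 𝟙_ (Over (Spec (CommRingCat.of k)))).left) := by
    intro x hx
    have h : pl (A ◁ x) (AVField.mum l d) = 1 := by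
      simp only [AVField.mum, map_mul, pl_pl]
      rw [whiskerLeft_fst, whiskerLeft_snd,
        show (A ◁ x) ≫ μ[A] = fst A (𝟙_ _) ≫ (𝟙 A * (toUnit A ≫ x)) by
          rw [MonObj.comp_mul, Category.comp_id, comp_toUnit_assoc, toUnit_unique (toUnit (A ⊗ 𝟙_ _)) (snd A (𝟙_ _)),
            show μ[A] = fst A A * snd A A from by rw [Hom.mul_def, lift_fst_snd, Category.id_comp],
            MonObj.comp_mul, whiskerLeft_fst, whiskerLeft_snd],
        ← pl_pl (fst A (𝟙_ _)), hx, ← map_mul, hld, map_one, _root_.one_mul, toUnit_unique (snd A (𝟙_ _)) (toUnit _),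
        pl_const (AVField.isInvertibleCl_inv hl hld)]
    rw [← hlam, pl_pl, ← whiskerLeft_comp] at h
    rw [← h, phi_pl hφ _ hξ.1, hξ.2.1, Category.comp_id]
  refine (cancel_mono (φ A (AVField.mum l d))).1 ((key a ha).trans (key 1 ?_).symm)
  rw [MonObj.comp_one, _root_.mul_one]
  exact pl_id l

end Fix

variable (k : Type u) [Field k] [IsAlgClosed k] {C : Scheme.{u}} [C.Over (Spec (CommRingCat.of k))]
  [IsProper (C ↘ Spec (CommRingCat.of k))] [Smooth (C ↘ Spec (CommRingCat.of k))]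
  [GeometricallyConnected (C ↘ Spec (CommRingCat.of k))]

/-- **The theta line bundle is ample with Euler characteristic one.** -/
theorem theta_ample (hdim : topologicalKrullDim C = 1) {g : ℕ} (hg : Curv2.genus k C = g) (hg1 : 1 ≤ g)
    {J : Over (Spec (CommRingCat.of k))} [GrpObj J] [IsCommMonObj J]
    {ψ : (ModFun.PicDeg (C ↘ Spec (CommRingCat.of k)) 0).Hom ⊤ J}
    (hJ : Jac.IsJacobian (C ↘ Spec (CommRingCat.of k)) ⊤ J ψ)
    {N : C.Modules} (hN : PicF.IsInvertible N) (hNdeg : Curv2.deg k C N 1 = (g : ℤ) - 1)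
    {Θ : J.left.Modules} (hΘ : Jac.IsThetaLB (C ↘ Spec (CommRingCat.of k)) 0 ψ N Θ) :
    IsProper J.hom ∧ GeometricallyIntegral J.hom ∧ topologicalKrullDim J.left = (g : WithBot ℕ∞) ∧
      CohB1.IsAmple Θ ∧ @Curv2.euler k _ J.left ⟨J.hom⟩ Θ = 1 := by
  haveI : IsIntegral C := CurveStable.isIntegral_of_geometricallyConnected (k := k)
  haveI := PicRep.smoothOfRelativeDimension_one k C hdim
  obtain ⟨x₀, -⟩ := JacVarLib.exists_pt_mem k (U := (Set.univ : Set C)) isOpen_univ ⟨genericPoint C, trivial⟩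
  obtain ⟨P₀, -⟩ := JacVarLib.exists_pt k x₀
  let σ : Spec (CommRingCat.of k) ⟶ C := P₀.left
  have hσ : σ ≫ C ↘ Spec (CommRingCat.of k) = 𝟙 _ := Over.w P₀
  obtain ⟨⟨r, hψ, hmul⟩, hJp, -, -, hJi, hJd⟩ := PicRep.exists_rep_of_isJacobian hσ hdim hJ
  haveI := hJp; haveI := hJi
  obtain ⟨j, hj⟩ := exists_abel (σ := σ) hσ ψ
  obtain ⟨n, rfl⟩ : ∃ n, g = n + 1 := ⟨g - 1, by omega⟩
  have hJd' : topologicalKrullDim J.left = ((n + 1 : ℕ) : WithBot ℕ∞) := by rw [hJd, hg]
  obtain ⟨a, ha⟩ := exists_thetaLocus_eq k hdim hJ hj r hψ hmul hg hN (by rw [hNdeg]; push_cast; ring)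
  obtain ⟨hΘi, hΘI⟩ := hΘ
  have hset : ClSub.IsInverseOf Θ (ClSub.idealMod (Scheme.IdealSheafData.vanishingIdeal (thetaSet k j n a))) := by
    refine Eq.mp ?_ hΘI
    exact congrArg (fun Z => ClSub.IsInverseOf Θ (ClSub.idealMod (Scheme.IdealSheafData.vanishingIdeal Z)))
      (Closeds.ext ha)
  obtain ⟨hL, hL'⟩ := theta_data k a hΘi hset
  obtain ⟨Q, _, φ, -, hQp, hQg, -, -, -, -, -, hφ⟩ := AVDualExist.exists_dual J (n + 1) hJd'
  haveI := hQp; haveI := hQg
  set v : Pc J.left := JacVarLib.mk Θ hΘi with hv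
  have hiso : IsIso (φ J (AVField.mum v.1.val v⁻¹.1.val)) := by
    rw [← mum_transl v a]
    exact lam_isIso k hdim hJ hj r hψ hmul hg hL hL' hφ
  have hvd : PicF.cl Θ * v⁻¹.1.val = 1 := by rw [← JacVarLib.mk_val Θ hΘi]; exact val_mul_inv v
  rw [hv, JacVarLib.mk_val, ← hv] at hiso
  haveI := hiso
  obtain ⟨hIi, -⟩ := inverse_data hΘi hset
  haveI : IsIntegral J.left := GeometricallyIntegral.isIntegral_of_subsingleton J.hom
  obtain ⟨s, hs, -⟩ := AVAmple.exists_divisor_section_ne_zero _ ((S8914.result _).1 hIi) hΘi hset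
  have hamp : CohB1.IsAmple Θ :=
    AVAmple.isAmple_of_finite_fixing hΘi hs ((Set.finite_singleton 1).subset fun x hx =>
      eq_one_of_fix hφ ⟨Θ, rfl, hΘi⟩ hvd x hx)
  refine ⟨inferInstance, inferInstance, hJd', hamp, ?_⟩
  letI : J.left.Over (Spec (CommRingCat.of k)) := ⟨J.hom⟩
  haveI : IsProper (J.left ↘ Spec (CommRingCat.of k)) := ‹IsProper J.hom›
  obtain ⟨-, -, -, hdeg⟩ := AVField.isogeny_phi_mum hφ hamp hvd
  haveI : IsIso (φ J (AVField.mum (PicF.cl Θ) v⁻¹.1.val)).left :=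
    inferInstanceAs (IsIso ((Over.forget _).map _))
  haveI : IsIntegral Q.left := GeometricallyIntegral.isIntegral_of_subsingleton Q.hom
  obtain ⟨y⟩ : Nonempty Q.left := inferInstance
  have h2 := hdeg y
  rw [Scheme.Hom.finrank_eq_one_of_isIso] at h2
  have h3 := VolLib.euler_one (k := k) (AVEuler.subsingleton_HH_ample hamp)
  rw [h3] at h2 ⊢
  have h4 : (1 : ℤ) = (VolLib.dimH k Θ 0 : ℤ) ^ 2 := by simpa using h2
  have h5 : (VolLib.dimH k Θ 0 : ℤ) = 1 ∨ (VolLib.dimH k Θ 0 : ℤ) = -1 := sq_eq_one_iff.1 h4.symm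
  omega

end Groth.Agent.AlbCurve
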