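import Groth.Agent.AlbCurve.ThetaPull
import Groth.Agent.DivX.CodimOne
import Groth.Agent.S2821
import Groth.Agent.VarDim.FibreDim
import Groth.Agent.VarDim.Top
import Groth.Agent.H23.P1Graph
import Groth.Agent.GrpSchLib.SmoothRegular
import Groth.Agent.CurveCohLib.SmoothCurve
import Groth.Agent.SmoothCrit.Sch

/-!
# The theta divisor is an effective Cartier divisor
-/

set_option autoImplicit false
set_option maxHeartbeats 1600000
set_option linter.style.haveILetI false
set_option linter.unusedSectionVars false
set_option backward.isDefEq.respectTransparency false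
set_option backward.isDefEq.respectTransparency.types false

universe u

open CategoryTheory CategoryTheory.Limits AlgebraicGeometry TopologicalSpace Opposite MonoidalCategory
  CartesianMonoidalCategory MonObj

noncomputable section

namespace Groth.Agent.AlbCurve

open Groth.Agent Groth.Agent.PicRep
open Groth.Agent.JacVarLib (Pc pullPc pullPc_val pullPc_comp ext_val hz KP img refl sm cls Os)
open scoped Groth.Agent.H23.PicMul

attribute [local instance] Jacobian.curveOver GenusOneX.fibreOver GenusOneX.flat_of_family GenusOneX.lfp_of_family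

variable (k : Type u) [Field k] [IsAlgClosed k] {C : Scheme.{u}} [C.Over (Spec (CommRingCat.of k))]
  [IsProper (C ↘ Spec (CommRingCat.of k))] [SmoothOfRelativeDimension 1 (C ↘ Spec (CommRingCat.of k))]
  [GeometricallyConnected (C ↘ Spec (CommRingCat.of k))] [Smooth (C ↘ Spec (CommRingCat.of k))] [IsIntegral C]
  (hdim : topologicalKrullDim C = 1)
  {σ : Spec (CommRingCat.of k) ⟶ C} (hσ : σ ≫ C ↘ Spec (CommRingCat.of k) = 𝟙 _)
  {J : Over (Spec (CommRingCat.of k))} [GrpObj J] [IsCommMonObj J]
  {ψ : (ModFun.PicDeg (C ↘ Spec (CommRingCat.of k)) 0).Hom ⊤ J}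
  (hJ : Jac.IsJacobian (C ↘ Spec (CommRingCat.of k)) ⊤ J ψ)
  {j : Over.mk (C ↘ Spec (CommRingCat.of k)) ⟶ J}
  (hj : Jac.IsAbelJacobiAt (C ↘ Spec (CommRingCat.of k)) σ ψ j)

include hdim hσ hJ hj in
/-- **The translates of the reflected theta divisor are effective Cartier divisors.** -/
theorem isEffCartier_thetaSet {n : ℕ} (hn : Curv2.genus k C = n + 1) (a : KP k J) :
    BlowUp.IsEffCartierIdeal (Scheme.IdealSheafData.vanishingIdeal (thetaSet k j n a)) := by
  classical
  let f := C ↘ Spec (CommRingCat.of k)
  let cp : ↥(Spec (CommRingCat.of k)) := IsLocalRing.closedPoint k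
  haveI : Subsingleton ↥(Spec (CommRingCat.of k)) := inferInstanceAs (Subsingleton (PrimeSpectrum k))
  obtain ⟨-, hJp, hJs, -, hJi, hJd⟩ := exists_rep_of_isJacobian hσ hdim hJ
  haveI := hJp; haveI := hJs; haveI := hJi
  haveI : IsIntegral J.left := H23.MaxAbelian.isIntegral_of_geometricallyIntegral
  haveI : IsLocallyNoetherian J.left := LocallyOfFiniteType.isLocallyNoetherian J.hom
  obtain ⟨W, ρ, pr, hWp, hWc, hWo, hWs, hlift, hext⟩ :=
    Jacobian.exists_power f (𝟙_ (Over (Spec (CommRingCat.of k)))) n
  haveI := hWp; haveI := hWc; haveI := hWo; haveI := hWs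
  haveI : ConnectedSpace ↥(Spec (CommRingCat.of k)) := inferInstanceAs (ConnectedSpace (PrimeSpectrum k))
  have hW : ρ.left = W.hom := (Category.comp_id _).symm.trans (Over.w ρ)
  haveI : IsProper W.hom := hW ▸ hWp
  haveI : SmoothOfRelativeDimension n W.hom := hW ▸ hWs
  haveI : Smooth W.hom := SmoothOfRelativeDimension.smooth n W.hom
  haveI : ConnectedSpace W.left := by
    haveI : GeometricallyConnected W.hom := hW ▸ hWc
    haveI : UniversallyOpen W.hom := hW ▸ hWo
    exact GeometricallyConnected.connectedSpace W.hom W.hom.isOpenMap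
  haveI : CompactSpace W.left := QuasiCompact.compactSpace_of_compactSpace W.hom
  haveI : IsIntegral W.left := CurveCohLib.isIntegral_of_smooth_connected W.hom
  haveI : JacobsonSpace W.left := LocallyOfFiniteType.jacobsonSpace W.hom
  let h : W ⟶ J := (∏ i, pr i ≫ j) ≫ refl k a
  let g : W.left ⟶ J.left := h.left
  have hgw : g ≫ J.hom = W.hom := Over.w h
  haveI : LocallyOfFiniteType (g ≫ J.hom) := by rw [hgw]; infer_instance
  haveI : IsProper g := by
    haveI : IsProper (g ≫ J.hom) := by rw [hgw]; infer_instance
    exact IsProper.of_comp g J.hom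
  have hq : ∀ (q : KP k W), q ≫ h = (∏ i, (q ≫ pr i) ≫ j) ≫ refl k a := fun q => by
    simp only [h, ← Category.assoc, comp_prod]
  -- the image
  have hrange : Set.range g = Set.range (sm k j n ≫ refl k a).left.base := by
    refine (JacVarLib.eq_of_kp k h (sm k j n ≫ refl k a) fun c => ?_)
    rw [JacVarLib.mem_range_iff k, JacVarLib.mem_range_iff k]
    constructor
    · rintro ⟨q, rfl⟩
      obtain ⟨y, hy⟩ := JacVarLib.exists_tuple k (fun i => JacVarLib.pt k (q ≫ pr i))
      refine ⟨y, ?_⟩
      rw [hq, ← Category.assoc, JacVarLib.comp_list_prod, List.map_ofFn, List.prod_ofFn]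
      refine congrArg (· ≫ refl k a) (Finset.prod_congr rfl fun i _ => ?_)
      show y ≫ (JacVarLib.pr k n i ≫ j) = _
      rw [← Category.assoc, JacVarLib.pt_injective k (hy i)]
    · rintro ⟨y, rfl⟩
      obtain ⟨q, -, hqi⟩ := hlift (𝟙_ _) (toUnit _) (fun i => y ≫ JacVarLib.pr k n i)
      refine ⟨q, ?_⟩
      rw [hq, ← Category.assoc y, JacVarLib.comp_list_prod, List.map_ofFn, List.prod_ofFn]
      refine congrArg (· ≫ refl k a) (Finset.prod_congr rfl fun i _ => ?_)
      show _ = y ≫ (JacVarLib.pr k n i ≫ j)
      rw [hqi, Category.assoc]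
  have hset : (thetaSet k j n a : Set J.left) = Set.range g := (coe_thetaSet k n a).trans hrange.symm
  have hker : Scheme.IdealSheafData.vanishingIdeal (thetaSet k j n a) = g.ker := by
    refine le_antisymm (le_trans (Scheme.IdealSheafData.vanishingIdeal_antimono ?_)
      (Triage.SchDense.vanishingIdeal_le_ker g)) (Scheme.IdealSheafData.le_support_iff_le_vanishingIdeal.1 ?_)
    · show closure (Set.range g) ⊆ (thetaSet k j n a : Set J.left)
      exact closure_minimal hset.symm.subset (thetaSet k j n a).isClosed
    · show (thetaSet k j n a : Set J.left) ⊆ (g.ker.support : Set J.left)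
      rw [Scheme.Hom.support_ker]
      exact hset.subset.trans subset_closure
  obtain ⟨hI, hgen⟩ := H23.P1Graph.image_integral g
  haveI := hI
  rw [hker]
  refine DivX.isEffCartier_of_codim_one g.ker ?_ fun x _ => by
    haveI := GrpSchLib.isRegularLocalRing_stalk_of_smooth J.hom x
    exact S2821.result (J.left.presheaf.stalk x)
  rw [hgen]
  -- the degree of the generic point of the image
  have hdz : VarDim.deg W.hom (genericPoint W.left) = n := by
    haveI : SmoothOfRelativeDimension n (𝟙 W.left ≫ W.hom) := by rw [Category.id_comp]; infer_instance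
    have h1 := SmoothCrit.eq_dim (qX := W.hom) (𝟙 W.left) n
    rw [VarDim.topologicalKrullDim_eq_deg_genericPoint W.hom] at h1
    exact_mod_cast h1
  have hfin : VarDim.fdeg g (genericPoint W.left) = 0 := by
    obtain ⟨x, hx1⟩ := JacVarLib.exists_tuple_hz_one k hdim (n := n) (by omega)
    choose P hP using fun i => JacVarLib.exists_pt k (x i)
    obtain ⟨q, -, hqi⟩ := hlift (𝟙_ _) (toUnit _) P
    let z : W.left := img k q
    obtain ⟨z', -, -, hz', hle⟩ := VarDim.exists_fdeg_ge g J.hom (genericPoint_specializes z)
    have hjc : IsClosed ({g z} : Set J.left) := by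
      let pa : Spec (CommRingCat.of k) ⟶ J.left := (q ≫ h).left
      haveI : IsClosedImmersion pa := isClosedImmersion_of_comp_eq_id J.hom pa (Over.w (q ≫ h))
      have := pa.isClosedEmbedding.isClosed_range
      rwa [Set.range_eq_singleton_iff.2 fun t => congrArg pa (Subsingleton.elim t cp)] at this
    have hpre : (g ⁻¹' {g z}).Finite := by
      have hclosed : ∀ b : KP k W, g (img k b) = g z → ∃ e : Fin n → Fin n, ∀ i, b ≫ pr i = P (e i) := by
        intro b hb
        have h1 : b ≫ h = q ≫ h := JacVarLib.img_injective k hb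
        haveI : Mono (refl k a) := ⟨fun u v huv => by
          have := congrArg (· ≫ refl k a) huv
          exact (Category.comp_id u).symm.trans ((congrArg (u ≫ ·) (refl_refl a).symm).trans
            ((Category.assoc _ _ _).symm.trans (this.trans ((Category.assoc _ _ _).trans
              ((congrArg (v ≫ ·) (refl_refl a)).trans (Category.comp_id v))))))⟩
        rw [hq, hq, cancel_mono] at h1
        have h2 := congrArg (cls k hdim hJ) h1
        rw [cls_prod_points k hdim hσ hJ hj, cls_prod_points k hdim hσ hJ hj, div_left_inj] at h2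
        have hmem : ∀ i, ∃ l, x l = JacVarLib.pt k (b ≫ pr i) := fun i => by
          refine JacVarLib.mem_of_hz_eq_one k hdim x hx1 _ ?_
          have h3 : (∏ l, JacVarLib.O k hdim (x l)) = ∏ l, JacVarLib.O k hdim (JacVarLib.pt k (b ≫ pr l)) := by
            rw [h2]; simp only [hqi, hP]
          rw [h3]
          obtain ⟨m, rfl⟩ : ∃ m, n = m + 1 := ⟨n - 1, by have := i.isLt; omega⟩
          rw [Fin.prod_univ_succAbove _ i, mul_div_cancel_left]
          exact JacVarLib.hz_pos_of_eff k hdim ⟨fun l => JacVarLib.pt k (b ≫ pr (i.succAbove l)), rfl⟩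
        choose e he using hmem
        exact ⟨e, fun i => JacVarLib.pt_injective k (by rw [hP, he])⟩
      choose Q _ hQ using fun e : Fin n → Fin n => hlift (𝟙_ _) (toUnit _) (fun i => P (e i))
      have hF : IsClosed (Set.range fun e => img k (Q e) : Set W.left) := by
        rw [← Set.iUnion_singleton_eq_range]
        refine isClosed_iUnion_of_finite fun e => ?_
        let pb : Spec (CommRingCat.of k) ⟶ W.left := (Q e).left
        haveI : IsClosedImmersion pb := isClosedImmersion_of_comp_eq_id W.hom pb (Over.w (Q e))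
        have := pb.isClosedEmbedding.isClosed_range
        rwa [Set.range_eq_singleton_iff.2 fun t => congrArg pb (Subsingleton.elim t cp)] at this
      refine (Set.finite_range fun e => img k (Q e)).subset
        ((closure_inter_closedPoints (hjc.preimage g.continuous)).symm.trans_subset (closure_minimal ?_ hF))
      rintro c ⟨hc, hcc⟩
      obtain ⟨b, rfl⟩ := JacVarLib.exists_kp k hcc
      obtain ⟨e, he⟩ := hclosed b hc
      exact ⟨e, congrArg (img k) (hext _ _ _ (toUnit_unique _ _) fun i => by rw [hQ, he])⟩
    have hzc : IsClosed ({z'} : Set W.left) := by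
      haveI : Finite (g ⁻¹' {g z}) := hpre
      refine (hjc.preimage g.continuous).isClosedEmbedding_subtypeVal.isClosed_iff_image_isClosed.1
        (?_ : IsClosed ({⟨z', hz'⟩} : Set ↥(g ⁻¹' {g z}))) |> fun h => by simpa using h
      haveI : JacobsonSpace ↥(g ⁻¹' {g z}) :=
        JacobsonSpace.of_isClosedEmbedding (hjc.preimage g.continuous).isClosedEmbedding_subtypeVal
      exact isClosed_discrete _
    have h0 := (VarDim.closedPoint_iff_deg_eq_zero (g ≫ J.hom) z').1 hzc
    rw [VarDim.deg_comp_eq] at h0
    omega
  have hξ : VarDim.deg J.hom (g (genericPoint W.left)) = n := by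
    have h1 := VarDim.deg_comp_eq g J.hom (genericPoint W.left)
    rw [hfin, VarDim.deg_congr hgw, hdz] at h1
    omega
  have hJη : VarDim.deg J.hom (genericPoint J.left) = n + 1 := by
    have h1 := VarDim.topologicalKrullDim_eq_deg_genericPoint J.hom
    rw [hJd, hn] at h1
    exact_mod_cast h1.symm
  obtain ⟨b, hb, ⟨θ, hθx, hθd⟩, hle⟩ := VarDim.exists_deg_add_stalk J.hom (g (genericPoint W.left))
  have h1 : VarDim.deg J.hom θ ≤ n + 1 := hJη ▸ VarDim.deg_le_of_specializes J.hom (genericPoint_specializes θ)
  have h2 := hle (genericPoint J.left) (genericPoint_specializes _)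
  rw [hb, show b = 1 by omega]
  rfl

end Groth.Agent.AlbCurve
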