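import Groth.Agent.AlbCurve.LambdaPull
import Groth.Agent.AVFieldDual.Isogeny
import Groth.Agent.AVDualExist.Unique
import Groth.Agent.H23.TopDim
import Groth.Agent.S8120
import Groth.Agent.S12004

/-!
# The homomorphism attached to the theta divisor is an isomorphism
-/

set_option autoImplicit false
set_option maxHeartbeats 1600000
set_option linter.style.haveILetI false
set_option linter.unusedSectionVars false
set_option backward.isDefEq.respectTransparency false
set_option backward.isDefEq.respectTransparency.types false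

universe u

open CategoryTheory CategoryTheory.Limits AlgebraicGeometry TopologicalSpace Opposite MonoidalCategory
  CartesianMonoidalCategory MonObj

noncomputable section

namespace Groth.Agent.AlbCurve

open Groth.Agent Groth.Agent.PicRep Groth.Agent.AVPair Groth.Agent.AVDual
open Groth.Agent.JacVarLib (Pc pullPc pullPc_val pullPc_comp ext_val hz KP cls Os)
open Groth.Agent.GenusOneX (sct sct_proj pt comp_pt)
open scoped Groth.Agent.H23.PicMul

attribute [local instance] Jacobian.curveOver GenusOneX.fibreOver GenusOneX.flat_of_family GenusOneX.lfp_of_family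

section Mum

variable {k : Type u} [Field k] [IsAlgClosed k] {A : Over (Spec (CommRingCat.of k))} [GrpObj A] [IsCommMonObj A]
  [IsProper A.hom] [GeometricallyIntegral A.hom]

theorem val_mul_inv {X : Scheme.{u}} (v : Pc X) : v.1.val * v⁻¹.1.val = 1 := by
  rw [← Units.val_mul, ← Subgroup.coe_mul, mul_inv_cancel]
  rfl

/-- The homomorphism of an invertible module does not change under translation. -/
theorem mum_transl (v : Pc A.left) (b : KP k A) :
    AVField.mum (pullPc (Jac.transl A b).left v).1.val (pullPc (Jac.transl A b).left v)⁻¹.1.val =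
      AVField.mum v.1.val v⁻¹.1.val := by
  let c : Pc A.left := pullPc (Jac.transl A b).left v * v⁻¹
  have hsq : ∀ x y : KP k A, pullPc (Jac.transl A (x * y)).left v * v =
      pullPc (Jac.transl A x).left v * pullPc (Jac.transl A y).left v := by
    intro x y
    obtain ⟨e⟩ := S8120.result k A (JacVarLib.out v) (JacVarLib.isInvertible_out v) x y
    refine ext_val ?_
    have h := H23.PicMul.cl_eq_iff.2 ⟨e⟩
    rw [H23.PicMul.cl_tensor, H23.PicMul.cl_tensor, JacVarLib.cl_out] at h
    simp only [Subgroup.coe_mul, Units.val_mul, pullPc_val]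
    rw [← JacVarLib.cl_out v] at h ⊢
    exact h
  have hinv : ∀ x : KP k A, pullPc (Jac.transl A x).left c = c := fun x => by
    have h1 : pullPc (Jac.transl A x).left c =
        pullPc (Jac.transl A (x * b)).left v * (pullPc (Jac.transl A x).left v)⁻¹ := by
      simp only [c, map_mul, map_inv]
      rw [pullPc_comp, ← Over.comp_left, transl_transl]
    rw [h1, mul_inv_eq_iff_eq_mul]
    refine mul_right_cancel (b := v) ?_
    rw [hsq x b]
    simp only [c]
    rw [mul_comm (pullPc (Jac.transl A b).left v * v⁻¹) (pullPc (Jac.transl A x).left v), _root_.mul_assoc,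
      inv_mul_cancel_right]
  have hci : ∀ x : KP k A, Nonempty ((Scheme.Modules.pullback (𝟙 A * (toUnit A ≫ x)).left).obj (JacVarLib.out c) ≅
      JacVarLib.out c) := fun x => by
    refine H23.PicMul.cl_eq_iff.1 ?_
    show PicF.pullCl _ (PicF.cl (JacVarLib.out c)) = PicF.cl (JacVarLib.out c)
    rw [JacVarLib.cl_out]
    exact (pullPc_val _ c).symm.trans (congrArg (fun z : Pc A.left => z.1.val) (hinv x))
  obtain ⟨e⟩ := (S12004.result k A (JacVarLib.out c) (JacVarLib.isInvertible_out c)).1 hci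
  have hμ : fst A A * snd A A = μ[A] := by rw [Hom.mul_def, lift_fst_snd, Category.id_comp]
  have hμc : pl μ[A] c.1.val = pl (fst A A) c.1.val * pl (snd A A) c.1.val := by
    have h := H23.PicMul.cl_eq_iff.2 ⟨e⟩
    rw [H23.PicMul.cl_tensor, hμ] at h
    change PicF.pullCl μ[A].left (PicF.cl (JacVarLib.out c)) =
      PicF.pullCl (fst A A).left (PicF.cl (JacVarLib.out c)) * PicF.pullCl (snd A A).left (PicF.cl (JacVarLib.out c)) at h
    rw [JacVarLib.cl_out] at h
    exact h
  have h1 : (pullPc (Jac.transl A b).left v).1.val = c.1.val * v.1.val := by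
    rw [← Units.val_mul, ← Subgroup.coe_mul]
    simp only [c, inv_mul_cancel_right]
  have h2 : (pullPc (Jac.transl A b).left v)⁻¹.1.val = c⁻¹.1.val * v⁻¹.1.val := by
    rw [← Units.val_mul, ← Subgroup.coe_mul, ← mul_inv]
    simp only [c, inv_mul_cancel_right]
  have hc1 : AVField.mum c.1.val c⁻¹.1.val = 1 := by
    rw [AVField.mum, hμc, mul_right_comm (pl (fst A A) c.1.val), ← map_mul, _root_.mul_assoc, ← map_mul,
      val_mul_inv, map_one, map_one, _root_.mul_one]
  have hm : AVField.mum (c.1.val * v.1.val) (c⁻¹.1.val * v⁻¹.1.val) =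
      AVField.mum c.1.val c⁻¹.1.val * AVField.mum v.1.val v⁻¹.1.val := by
    simp only [AVField.mum, map_mul]
    ac_rfl
  rw [h1, h2, hm, hc1, _root_.one_mul]

end Mum

section Dim

/-- A closed immersion of integral schemes of the same finite dimension is an isomorphism. -/
theorem isIso_of_closedImmersion_dim {X Y : Scheme.{u}} (i : X ⟶ Y) [IsClosedImmersion i] [IsIntegral Y]
    {g : ℕ} (hX : topologicalKrullDim X = g) (hY : topologicalKrullDim Y = g) : IsIso i := by
  have hs : Set.range i = Set.univ := by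
    by_contra hne
    have h := H23.TopDim.dim_lt_of_ssubset (X := Y) (by rw [hY]; exact WithBot.coe_injective.ne (ENat.coe_ne_top g))
      i.isClosedEmbedding.isClosed_range hne
    rw [← (i.isClosedEmbedding.isEmbedding.toHomeomorph).isHomeomorph.topologicalKrullDim_eq, hX, hY] at h
    exact lt_irrefl _ h
  haveI : Surjective i := ⟨Set.range_eq_univ.1 hs⟩
  exact isIso_of_isClosedImmersion_of_surjective i

end Dim

variable (k : Type u) [Field k] [IsAlgClosed k] {C : Scheme.{u}} [C.Over (Spec (CommRingCat.of k))]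
  [IsProper (C ↘ Spec (CommRingCat.of k))] [SmoothOfRelativeDimension 1 (C ↘ Spec (CommRingCat.of k))]
  [GeometricallyConnected (C ↘ Spec (CommRingCat.of k))] [Smooth (C ↘ Spec (CommRingCat.of k))] [IsIntegral C]
  (hdim : topologicalKrullDim C = 1)
  {σ : Spec (CommRingCat.of k) ⟶ C} {hσ : σ ≫ C ↘ Spec (CommRingCat.of k) = 𝟙 _}
  {J : Over (Spec (CommRingCat.of k))} [GrpObj J] [IsCommMonObj J] [IsProper J.hom] [GeometricallyIntegral J.hom]
  {ψ : (ModFun.PicDeg (C ↘ Spec (CommRingCat.of k)) 0).Hom ⊤ J}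
  (hJ : Jac.IsJacobian (C ↘ Spec (CommRingCat.of k)) ⊤ J ψ)
  {j : Over.mk (C ↘ Spec (CommRingCat.of k)) ⟶ J}
  (hj : Jac.IsAbelJacobiAt (C ↘ Spec (CommRingCat.of k)) σ ψ j)
  (r : (funct0 (C ↘ Spec (CommRingCat.of k)) σ hσ).RepresentableBy J)
  (hψ : ∀ (T : Over (Spec (CommRingCat.of k))) (E : (PicF.XT (C ↘ Spec (CommRingCat.of k)) T).Modules)
    (hT : (⊤ : ObjectProperty (Over (Spec (CommRingCat.of k)))) T)
    (h : (ModFun.PicDeg (C ↘ Spec (CommRingCat.of k)) 0).ok T E), ψ.app T E hT h = phi0 r T (PicF.cl E))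
  (hmul : ∀ (T : Over (Spec (CommRingCat.of k))) (a b : T ⟶ J),
    val0 (r.homEquiv (a * b)) = val0 (r.homEquiv a) * val0 (r.homEquiv b))
  {n : ℕ} (hn : Curv2.genus k C = n + 1) {L : Pc J.left}
  (hL : (L⁻¹).1.val = PicF.cl (ClSub.idealMod (Scheme.IdealSheafData.vanishingIdeal (thetaSet k j n 1))))
  (hL' : PicF.IsInvertible (ClSub.idealMod (Scheme.IdealSheafData.vanishingIdeal (thetaSet k j n 1))))
  {Jt : Over (Spec (CommRingCat.of k))} [GrpObj Jt] [IsProper Jt.hom] [GeometricallyIntegral Jt.hom]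
  {φ : AgPol.DualMap J Jt} (hφ : AbDual.IsDualAV Scheme.fppfPrecoverage J Jt φ)

include hdim hJ hj hψ hmul hn hL hL' hφ in
/-- The homomorphism of the theta divisor followed by the pullback along the Abel map is the inversion. -/
theorem lam_comp {P : (J ⊗ Jt).left.Modules} (hξ : AbDual.IsPoincareCl J Jt φ (PicF.cl P)) (fd : Jt ⟶ J)
    (hfd : (val0 (r.homEquiv fd)).1.val = PicF.pullCl (AbDual.bcMap j Jt) (PicF.cl P)) :
    φ J (AVField.mum L.1.val L⁻¹.1.val) ≫ fd = (𝟙 J)⁻¹ := by
  let f := C ↘ Spec (CommRingCat.of k)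
  have hl : PicF.IsInvertibleCl L.1.val := L.2
  have hlam := AVField.pl_poincare_mum hφ hξ hl (val_mul_inv L)
  generalize φ J (AVField.mum L.1.val L⁻¹.1.val) = lam at hlam
  obtain ⟨N, hN, hNi⟩ := AVField.isInvertibleCl_mum hl (val_mul_inv L)
  let Nc : Pc (PicF.XT J.hom J) := JacVarLib.mk N hNi
  have hNc : Nc.1.val = AVField.mum L.1.val L⁻¹.1.val := (JacVarLib.mk_val N hNi).trans hN
  have hrel : Nc * pullPc (pr1 J) L * pullPc (pr2 J) L = pullPc (mulMap J) L := by
    refine ext_val ?_
    have key : AVField.mum L.1.val L⁻¹.1.val * pl (fst J J) L.1.val * pl (snd J J) L.1.val = pl μ[J] L.1.val := by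
      rw [AVField.mum]
      calc _ = pl μ[J] L.1.val * pl (fst J J) (L.1.val * L⁻¹.1.val) * pl (snd J J) (L.1.val * L⁻¹.1.val) := by
            simp only [map_mul]; ac_rfl
        _ = _ := by rw [val_mul_inv, map_one, map_one, _root_.mul_one, _root_.mul_one]
    simp only [Subgroup.coe_mul, Units.val_mul, pullPc_val, hNc]
    exact key
  have h := lambda_pull k hdim hJ hj r hψ hmul hn hL hL' hrel
  have h2 : pullPc (AbDual.bcMap j J) Nc = val0 (r.homEquiv ((𝟙 J)⁻¹)) := by
    rw [show val0 (r.homEquiv ((𝟙 J)⁻¹)) = pullPc (PicF.XTmap f ((𝟙 J)⁻¹)) (val0 (r.homEquiv (𝟙 J))) by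
      rw [← val0_map, ← r.homEquiv_comp, Category.comp_id], ← h, pullPc_comp, ← Category.assoc,
      LineDesc.Rig.XTmap_comp, GrpObj.comp_inv, Category.comp_id, inv_inv, LineDesc.Rig.XTmap_id, Category.id_comp]
    rfl
  refine r.homEquiv.injective (val0_injective (ext_val ?_))
  rw [r.homEquiv_comp, val0_map, pullPc_val, hfd, ← h2, pullPc_val, hNc, ← hlam, PicClLib.pullCl_comp]
  erw [AbDualBase.xtMap_bcMap j lam]
  rw [← PicClLib.pullCl_comp]
  rfl

include hdim hJ hj hψ hmul hφ in
/-- The pullback along the Abel map as a morphism of the duals. -/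
theorem exists_fd {P : (J ⊗ Jt).left.Modules} (hξ : AbDual.IsPoincareCl J Jt φ (PicF.cl P)) :
    ∃ fd : Jt ⟶ J, (val0 (r.homEquiv fd)).1.val = PicF.pullCl (AbDual.bcMap j Jt) (PicF.cl P) := by
  let f := C ↘ Spec (CommRingCat.of k)
  let Cc : Over (Spec (CommRingCat.of k)) := Over.mk f
  have hz : AbDual.IsPicZeroCl f Jt (PicF.pullCl (AbDual.bcMap j Jt) (PicF.cl P)) := AbDualBase.pz_bc j hξ.1
  let v : Pc (PicF.XT f Jt) := toPc _ ((Jacobian.isPicZeroCl_iff f).1 hz).1
  have hv0 : v ∈ PZ f Jt := mem_PZ.2 fun t => by rw [toPc_val]; exact ((Jacobian.isPicZeroCl_iff f).1 hz).2 t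
  have hvR : v ∈ RP f σ hσ Jt := by
    refine mem_RP.2 (ext_val ?_)
    rw [pullPc_val, toPc_val, PicClLib.pullCl_comp,
      show PicF.secT f σ hσ Jt ≫ AbDual.bcMap j Jt = (lift (1 : Jt ⟶ J) (𝟙 Jt)).left from ?_]
    · exact (AVDual.poincare_axes hφ hξ).1
    have hσj : σ ≫ j.left = (1 : 𝟙_ (Over (Spec (CommRingCat.of k))) ⟶ J).left := by
      rw [← pt_abel r hmul (fun T x => val0_abel r hψ hj x) (𝟙_ _), Over.comp_left]
      refine congrArg (· ≫ j.left) ?_
      exact (Category.id_comp σ).symm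
    refine pullback.hom_ext ?_ ?_
    · refine Eq.trans ?_ (congrArg CommaMorphism.left (lift_fst (1 : Jt ⟶ J) (𝟙 Jt))).symm
      erw [Category.assoc, AbDualBase.bcMap_fst, ← Category.assoc, pullback.lift_fst, Category.assoc, hσj]
      exact congrArg CommaMorphism.left (show toUnit Jt ≫ (1 : 𝟙_ _ ⟶ J) = 1 from MonObj.comp_one _)
    · refine Eq.trans ?_ (congrArg CommaMorphism.left (lift_snd (1 : Jt ⟶ J) (𝟙 Jt))).symm
      erw [Category.assoc, AbDualBase.bcMap_snd, pullback.lift_snd]
      rfl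
  obtain ⟨fd, hfd⟩ := exists_val0_eq r (T := Jt) (v := v) ⟨hvR, hv0⟩
  exact ⟨fd, by rw [hfd, toPc_val]⟩

include hdim hJ hj hψ hmul hn hL hL' hφ in
/-- The homomorphism of the theta divisor is an isomorphism. -/
theorem lam_isIso : IsIso (φ J (AVField.mum L.1.val L⁻¹.1.val)) := by
  obtain ⟨P, -, hξ⟩ := AVField.exists_poincare' hφ
  obtain ⟨fd, hfd⟩ := exists_fd k hdim hJ hj r hψ hmul hφ hξ
  have hc := lam_comp k hdim hJ hj r hψ hmul hn hL hL' hφ hξ fd hfd
  set lam := φ J (AVField.mum L.1.val L⁻¹.1.val)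
  have h1 : lam ≫ fd ≫ (𝟙 J)⁻¹ = 𝟙 J := by
    rw [← Category.assoc, hc, GrpObj.comp_inv, Category.comp_id, inv_inv]
  let s := fd ≫ (𝟙 J)⁻¹
  haveI : IsSeparated s.left := by
    haveI : IsSeparated (s.left ≫ J.hom) := by rw [Over.w s]; infer_instance
    exact IsSeparated.of_comp s.left J.hom
  have h1' : lam.left ≫ s.left = 𝟙 J.left := congrArg CommaMorphism.left h1
  haveI : IsClosedImmersion lam.left := by
    haveI : IsClosedImmersion (lam.left ≫ s.left) := by rw [h1']; infer_instance
    exact IsClosedImmersion.of_comp lam.left s.left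
  haveI : IsIntegral Jt.left := GeometricallyIntegral.isIntegral_of_subsingleton Jt.hom
  obtain ⟨-, -, -, -, -, hJd⟩ := exists_rep_of_isJacobian hσ hdim hJ
  have hJd' : topologicalKrullDim ↥J.left = ((n + 1 : ℕ) : WithBot ℕ∞) := by rw [hJd, hn]
  obtain ⟨-, -, hd⟩ := AVDualExist.isAV_of_isDualAV (n + 1) hJd' hφ
  haveI := isIso_of_closedImmersion_dim lam.left hJd' hd
  haveI : IsIso ((Over.forget _).map lam) := ‹IsIso lam.left›
  exact isIso_of_reflects_iso lam (Over.forget _)

end Groth.Agent.AlbCurve
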