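import Groth.Agent.AlbCurve.ThetaSeesaw
import Groth.Agent.AlbCurve.ThetaCartier
import Groth.Agent.PicRep.DivFam
import Groth.Agent.RelCurve.Scheme

/-!
# The pullback of a translate of the theta divisor by the Abel map, with multiplicities
-/

set_option autoImplicit false
set_option maxHeartbeats 1600000
set_option linter.style.haveILetI false
set_option linter.unusedSectionVars false
set_option backward.isDefEq.respectTransparency false
set_option backward.isDefEq.respectTransparency.types false

universe u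

open CategoryTheory CategoryTheory.Limits AlgebraicGeometry TopologicalSpace Opposite MonoidalCategory
  CartesianMonoidalCategory MonObj

noncomputable section

namespace Groth.Agent.AlbCurve

open Groth.Agent Groth.Agent.PicRep
open Groth.Agent.JacVarLib (Pc pullPc pullPc_val pullPc_comp ext_val out cl_out isInvertible_out hz KP img refl sm cls Os dg)
open scoped Groth.Agent.H23.PicMul

attribute [local instance] Jacobian.curveOver GenusOneX.fibreOver GenusOneX.flat_of_family GenusOneX.lfp_of_family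

variable (k : Type u) [Field k] [IsAlgClosed k] {C : Scheme.{u}} [C.Over (Spec (CommRingCat.of k))]
  [IsProper (C ↘ Spec (CommRingCat.of k))] [SmoothOfRelativeDimension 1 (C ↘ Spec (CommRingCat.of k))]
  [GeometricallyConnected (C ↘ Spec (CommRingCat.of k))] [Smooth (C ↘ Spec (CommRingCat.of k))] [IsIntegral C]
  (hdim : topologicalKrullDim C = 1)
  {σ : Spec (CommRingCat.of k) ⟶ C} (hσ : σ ≫ C ↘ Spec (CommRingCat.of k) = 𝟙 _)
  {J : Over (Spec (CommRingCat.of k))} [GrpObj J] [IsCommMonObj J]
  {ψ : (ModFun.PicDeg (C ↘ Spec (CommRingCat.of k)) 0).Hom ⊤ J}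
  (hJ : Jac.IsJacobian (C ↘ Spec (CommRingCat.of k)) ⊤ J ψ)
  {j : Over.mk (C ↘ Spec (CommRingCat.of k)) ⟶ J}
  (hj : Jac.IsAbelJacobiAt (C ↘ Spec (CommRingCat.of k)) σ ψ j)

include hdim in
/-- An effective divisor with one section is determined by its class, up to order. -/
theorem perm_of_eq : ∀ {n : ℕ} (x y : Fin n → JacVarLib.Pt C), hz k (∏ i, JacVarLib.O k hdim (x i)) = 1 →
    (∏ i, JacVarLib.O k hdim (x i)) = ∏ i, JacVarLib.O k hdim (y i) → ∃ e : Equiv.Perm (Fin n), ∀ i, y i = x (e i) := by
  intro n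
  induction n with
  | zero => exact fun x y _ _ => ⟨Equiv.refl _, fun i => i.elim0⟩
  | succ n ih =>
    intro x y h1 he
    obtain ⟨i, hi⟩ := JacVarLib.mem_of_hz_eq_one k hdim x h1 (y 0) (by
      rw [he, Fin.prod_univ_succ, mul_div_cancel_left]
      exact JacVarLib.hz_pos_of_eff k hdim ⟨fun l => y l.succ, rfl⟩)
    have he' : (∏ l, JacVarLib.O k hdim (x (i.succAbove l))) = ∏ l : Fin n, JacVarLib.O k hdim (y l.succ) := by
      have h := he
      rw [Fin.prod_univ_succAbove _ i, Fin.prod_univ_succ (fun l => JacVarLib.O k hdim (y l)), hi] at h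
      exact mul_left_cancel h
    have h1' : hz k (∏ l, JacVarLib.O k hdim (x (i.succAbove l))) = 1 := by
      have hp : 0 < hz k (∏ l, JacVarLib.O k hdim (x (i.succAbove l))) :=
        JacVarLib.hz_pos_of_eff k hdim (n := n) ⟨fun l => x (i.succAbove l), rfl⟩
      have hd := JacVarLib.hz_div_O k hdim (∏ l, JacVarLib.O k hdim (x l)) (x i)
      rw [h1, Fin.prod_univ_succAbove _ i, mul_div_cancel_left] at hd
      by_cases hg : (x i).1 ∈ JacVarLib.gen (∏ l, JacVarLib.O k hdim (x l))
      · rw [Fin.prod_univ_succAbove _ i] at hg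
        have := hd.1 hg
        omega
      · rw [Fin.prod_univ_succAbove _ i] at hg
        have := hd.2 hg
        omega
    obtain ⟨e, he⟩ := ih (fun l => x (i.succAbove l)) (fun l => y l.succ) h1' he'
    let F : Fin (n + 1) → Fin (n + 1) := Fin.cases i fun l => i.succAbove (e l)
    have hF : Function.Injective F := by
      intro u v huv
      induction u using Fin.cases with
      | zero =>
        induction v using Fin.cases with
        | zero => rfl
        | succ v => exact absurd (by simpa [F] using huv.symm) (i.succAbove_ne (e v))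
      | succ u =>
        induction v using Fin.cases with
        | zero => exact absurd (by simpa [F] using huv) (i.succAbove_ne (e u))
        | succ v =>
          simp only [F, Fin.cases_succ] at huv
          rw [e.injective (Fin.succAbove_right_injective huv)]
    refine ⟨Equiv.ofBijective F (Finite.injective_iff_bijective.1 hF), fun l => ?_⟩
    induction l using Fin.cases with
    | zero => simp [F, hi]
    | succ l => simp [F, he]

include hdim in
/-- The ideal of a sum of points. -/
theorem cl_prod_ker : ∀ {n : ℕ} (P : Fin (n + 1) → KP k (Over.mk (C ↘ Spec (CommRingCat.of k)))),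
    PicF.IsInvertible (ClSub.idealMod (∏ i, ((P i).left : Spec (CommRingCat.of k) ⟶ C).ker)) ∧
      PicF.cl (ClSub.idealMod (∏ i, ((P i).left : Spec (CommRingCat.of k) ⟶ C).ker)) =
        (∏ i, JacVarLib.O k hdim (JacVarLib.pt k (P i)))⁻¹.1.val
  | 0, P => by
    rw [Fin.prod_univ_one, Fin.prod_univ_one]
    exact ⟨GenusOneX.isInvertible_ker (C ↘ Spec (CommRingCat.of k)) (Over.w (P 0)), JacVarLib.cl_ker k hdim (P 0)⟩
  | n + 1, P => by
    obtain ⟨h1, h2⟩ := cl_prod_ker fun i : Fin (n + 1) => P i.succ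
    have h0 := GenusOneX.isInvertible_ker (C ↘ Spec (CommRingCat.of k)) (Over.w (P 0))
    rw [Fin.prod_univ_succ (fun i => ((P i).left : Spec (CommRingCat.of k) ⟶ C).ker),
      Fin.prod_univ_succ (fun i => JacVarLib.O k hdim (JacVarLib.pt k (P i))), mul_inv]
    obtain ⟨e⟩ := DepthTwist.nonempty_idealMod_mul_iso ((P 0).left : Spec (CommRingCat.of k) ⟶ C).ker
      (∏ i : Fin (n + 1), ((P i.succ).left : Spec (CommRingCat.of k) ⟶ C).ker) h0
    refine ⟨H23.PicMul.isInvertible_of_iso e (H23.PicMul.isInvertible_tensor h0 h1), ?_⟩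
    refine (H23.PicMul.cl_eq_iff.2 ⟨e⟩).symm.trans ((H23.PicMul.cl_tensor _ _).trans ?_)
    rw [h2, Subgroup.coe_mul, Units.val_mul, ← JacVarLib.cl_ker k hdim (P 0)]

include hdim in
/-- A divisor of degree the genus whose class has one section is determined by its class. -/
theorem ideal_eq_of_cl {g : ℕ} (hg : Curv2.genus k C = g) {v : Pc C} (hd : dg k v = g) (h1 : hz k v = 1)
    {I I' : C.IdealSheafData} (hI : PicF.IsInvertible (ClSub.idealMod I))
    (hI' : PicF.IsInvertible (ClSub.idealMod I'))
    (hc : PicF.cl (ClSub.idealMod I) = v⁻¹.1.val) (hc' : PicF.cl (ClSub.idealMod I') = v⁻¹.1.val) : I = I' := by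
  let f := C ↘ Spec (CommRingCat.of k)
  have hgood : ∀ t, Good f v t := fun t => by
    obtain ⟨h2, h3⟩ := euler_of_hz k hdim (by rw [hg]; exact hd) h1
    exact ⟨(Bounded.χ_specField (ProjUPX.isQCoh_of_isInvertible (isInvertible_out v)) t).trans h2,
      (betti_specField (ProjUPX.isQCoh_of_isInvertible (isInvertible_out v)) t 1).trans h3⟩
  have hN := hasOneSection_of_good f hgood
  obtain ⟨Z, hZ⟩ := ZeroMapX.exists_isZeroIdeal (GenusOneX.ev f (out v))
    (PicClLib.isInvertible_pullback f (PicRep.isInvertible_push hN)) hN.inv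
  have key : ∀ K : C.IdealSheafData, PicF.IsInvertible (ClSub.idealMod K) →
      PicF.cl (ClSub.idealMod K) = v⁻¹.1.val → K = Z := by
    intro K hK hKc
    haveI : IsFinite (K.subschemeι ≫ f) := by
      have hfl : Flat (K.subschemeι ≫ f) := inferInstance
      obtain ⟨hq, hp⟩ := RelCurve.lqf_lfp_of_cartier f ((S8914.result _).1 hK) hfl
      haveI := hq; haveI := hp
      exact IsFinite.of_isProper_of_locallyQuasiFinite _
    obtain ⟨i⟩ : Nonempty ((Scheme.Modules.pullback f).obj (out (1 : Pc (Spec (CommRingCat.of k)))) ≅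
        CohB1.tensorMod (ClSub.idealMod K) (out v)) := H23.PicMul.cl_eq_iff.1 (by
      rw [H23.PicMul.cl_tensor, hKc, cl_out]
      show PicF.pullCl f (PicF.cl (out (1 : Pc (Spec (CommRingCat.of k))))) = _
      rw [cl_out, ← pullPc_val, map_one, ← Units.val_mul, ← Subgroup.coe_mul, inv_mul_cancel])
    exact eq_zeroIdeal hN hZ hK (isInvertible_out _) i
  rw [key I hI hc, key I' hI' hc']

include hdim hσ hJ hj in
/-- **The Abel pullback of a translate of the theta divisor, with multiplicities.** -/
theorem comap_thetaSet_prod {n : ℕ} (hn : Curv2.genus k C = n + 1) (b : KP k J)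
    (P : Fin (n + 1) → KP k (Over.mk (C ↘ Spec (CommRingCat.of k))))
    (hb : ∏ i, P i ≫ j = b)
    (hh : hz k (∏ i, JacVarLib.O k hdim (JacVarLib.pt k (P i))) = 1)
    (hnot : ¬ Set.range j.left.base ⊆ (thetaSet k j n b : Set J.left)) :
    (Scheme.IdealSheafData.vanishingIdeal (thetaSet k j n b)).comap j.left =
      ∏ i, ((P i).left : Spec (CommRingCat.of k) ⟶ C).ker := by
  obtain ⟨⟨r, hψ, hmul⟩, hJp, hJs, -, hJi, hJd⟩ := exists_rep_of_isJacobian hσ hdim hJ
  haveI := hJp; haveI := hJs; haveI := hJi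
  set VI := Scheme.IdealSheafData.vanishingIdeal (thetaSet k j n b)
  have hVI := isEffCartier_thetaSet k hdim hσ hJ hj hn b
  have hVIi := (S8914.result VI).2 hVI
  let j0 : C ⟶ J.left := j.left
  change VI.comap j0 = _
  haveI : IsLocallyNoetherian C := LocallyOfFiniteType.isLocallyNoetherian (C ↘ Spec (CommRingCat.of k))
  have hI : PicF.IsInvertible (ClSub.idealMod (VI.comap j0)) := by
    refine (S8914.result _).2 ?_
    have hlp := (ModPairLib.isLocPrincipal_of_isEffCartier hVI).comap j0
    haveI := ModPairLib.isAffineHom_interior hlp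
    haveI : Nonempty (ModPair.interior (VI.comap j0)).toScheme := by
      obtain ⟨y, ⟨x, rfl⟩, hx⟩ := Set.not_subset.1 hnot
      refine ⟨⟨x, fun hmem => hx ?_⟩⟩
      have hm : x ∈ ((VI.comap j0).support : Set C) := hmem
      rw [Scheme.IdealSheafData.support_comap] at hm
      have hm' : j0 x ∈ (VI.support : Set J.left) := hm
      rwa [Scheme.IdealSheafData.coe_support_vanishingIdeal] at hm'
    haveI : IsDominant (ModPair.interior (VI.comap j0)).ι := ⟨by
      rw [denseRange_iff_closure_range, Scheme.Opens.range_ι]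
      exact ((ModPair.interior (VI.comap j0)).isOpen.dense
        (let ⟨z⟩ := ‹Nonempty (ModPair.interior (VI.comap j0)).toScheme›; ⟨z.1, z.2⟩)).closure_eq⟩
    haveI := IsSchemeTheoreticallyDominant.of_isDominant (ModPair.interior (VI.comap j0)).ι
    exact ModPairLib.isEffCartier_of_dense hlp _ le_rfl
  obtain ⟨D, hD, ⟨eD⟩⟩ := H23.PicInv.exists_inverse hVIi
  have hDI : ClSub.IsInverseOf D (ClSub.idealMod VI) := by
    refine H23.PicMul.cl_eq_iff.1 ?_
    rw [H23.PicMul.cl_tensor, mul_comm, ← H23.PicMul.cl_tensor]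
    exact H23.PicMul.cl_eq_iff.2 ⟨eD⟩
  obtain ⟨hL, hL'⟩ := theta_data k b hD hDI
  have h := theta_point k hdim hJ hj r hψ hmul hn hL hL' b
  rw [pullPc_comp, translMap_transl, ← hb, cls_prod_points k hdim hσ hJ hj, div_mul_cancel] at h
  obtain ⟨hi, hv⟩ := inverse_data hD hDI
  obtain ⟨e⟩ := CurveAlgEqLib.nonempty_pullback_idealMod j0 hi hI
  obtain ⟨hP, hPc⟩ := cl_prod_ker k hdim P
  refine ideal_eq_of_cl k hdim (g := n + 1) hn (v := ∏ i, JacVarLib.O k hdim (JacVarLib.pt k (P i)))
    (JacVarLib.dg_of_eff k hdim ⟨fun i => JacVarLib.pt k (P i), rfl⟩) hh hI hP ?_ hPc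
  rw [← h, ← map_inv, pullPc_val, hv]
  exact (H23.PicMul.cl_eq_iff.2 ⟨e⟩).symm

end Groth.Agent.AlbCurve
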