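import Groth.Agent.AlbCurve.Rat
import Groth.Agent.Triage.SchDense
import Groth.Agent.DescLib.Reduced
import Groth.Agent.H23.RedSub
import Mathlib.AlgebraicGeometry.AlgClosed.Basic

/-!
# The pullback of a translate of the theta divisor by the Abel map
-/

set_option autoImplicit false
set_option maxHeartbeats 3200000
set_option linter.style.haveILetI false
set_option linter.unusedSectionVars false
set_option backward.isDefEq.respectTransparency false
set_option backward.isDefEq.respectTransparency.types false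

universe u

open CategoryTheory CategoryTheory.Limits AlgebraicGeometry TopologicalSpace Opposite MonoidalCategory
  CartesianMonoidalCategory MonObj

noncomputable section

namespace Groth.Agent.AlbCurve

open Groth.Agent Groth.Agent.PicRep
open Groth.Agent.JacVarLib (Pc pullPc hz KP img refl sm cls Os)
open Groth.Agent.GenusOneX (sct sct_proj)
open scoped Groth.Agent.H23.PicMul

attribute [local instance] Jacobian.curveOver GenusOneX.fibreOver GenusOneX.flat_of_family GenusOneX.lfp_of_family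

section Refl

variable {k : Type u} [Field k] {J : Over (Spec (CommRingCat.of k))} [GrpObj J] [IsCommMonObj J]

theorem comp_refl_gen {T : Over (Spec (CommRingCat.of k))} (x : T ⟶ J) (κ : KP k J) :
    x ≫ refl k κ = x⁻¹ * (toUnit T ≫ κ) := by
  rw [← Category.assoc, GrpObj.comp_inv, Category.comp_id, JacVarLib.kp_comp_transl]

theorem refl_refl (κ : KP k J) : refl k κ ≫ refl k κ = 𝟙 J := by
  rw [comp_refl_gen, show refl k κ = 𝟙 J ≫ refl k κ from (Category.id_comp _).symm, comp_refl_gen,
    mul_inv, inv_inv, inv_mul_cancel_right]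

instance isIso_refl (κ : KP k J) : IsIso (refl k κ).left :=
  ⟨(refl k κ).left, congrArg CommaMorphism.left (refl_refl κ), congrArg CommaMorphism.left (refl_refl κ)⟩

end Refl

variable (k : Type u) [Field k] [IsAlgClosed k] {C : Scheme.{u}} [C.Over (Spec (CommRingCat.of k))]
  [IsProper (C ↘ Spec (CommRingCat.of k))] [SmoothOfRelativeDimension 1 (C ↘ Spec (CommRingCat.of k))]
  [GeometricallyConnected (C ↘ Spec (CommRingCat.of k))] [Smooth (C ↘ Spec (CommRingCat.of k))] [IsIntegral C]
  (hdim : topologicalKrullDim C = 1)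
  {σ : Spec (CommRingCat.of k) ⟶ C} (hσ : σ ≫ C ↘ Spec (CommRingCat.of k) = 𝟙 _)
  {J : Over (Spec (CommRingCat.of k))} [GrpObj J] [IsCommMonObj J]
  {ψ : (ModFun.PicDeg (C ↘ Spec (CommRingCat.of k)) 0).Hom ⊤ J}
  (hJ : Jac.IsJacobian (C ↘ Spec (CommRingCat.of k)) ⊤ J ψ)
  {j : Over.mk (C ↘ Spec (CommRingCat.of k)) ⟶ J}
  (hj : Jac.IsAbelJacobiAt (C ↘ Spec (CommRingCat.of k)) σ ψ j)

/-- The reflected image of a power of the curve, as a closed set. -/
def thetaSet (j : Over.mk (C ↘ Spec (CommRingCat.of k)) ⟶ J) (n : ℕ) (a : KP k J) : Closeds J.left :=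
  ⟨closure (Set.range (sm k j n ≫ refl k a).left.base), isClosed_closure⟩

theorem coe_thetaSet (n : ℕ) (a : KP k J) :
    (thetaSet k j n a : Set J.left) = Set.range (sm k j n ≫ refl k a).left.base := by
  haveI := JacVarLib.isSeparated_J k (J := J)
  exact (JacVarLib.isClosed_range k _).closure_eq

include hj in
theorem mem_thetaSet (n : ℕ) (a c : KP k J) :
    img k c ∈ (thetaSet k j n a : Set J.left) ↔
      0 < hz k (cls k hdim hJ a / cls k hdim hJ c * Os k hdim σ hσ ^ n) := by
  haveI := JacVarLib.isSeparated_J k (J := J)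
  rw [coe_thetaSet, JacVarLib.mem_reflect, JacVarLib.mem_range_sm k hdim σ hσ hJ hj, JacVarLib.cls_mul,
    JacVarLib.cls_inv, div_eq_mul_inv]

include hj in
theorem cls_prod_points {m : ℕ} (x : Fin m → KP k (Over.mk (C ↘ Spec (CommRingCat.of k)))) :
    cls k hdim hJ (∏ i, x i ≫ j) =
      (∏ i, JacVarLib.O k hdim (JacVarLib.pt k (x i))) / Os k hdim σ hσ ^ m := by
  let φ : (KP k J) →* Pc C :=
    { toFun := cls k hdim hJ, map_one' := JacVarLib.cls_one k hdim hJ, map_mul' := JacVarLib.cls_mul k hdim hJ }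
  refine (map_prod φ _ _).trans ?_
  refine (Finset.prod_congr rfl (g := fun i => JacVarLib.O k hdim (JacVarLib.pt k (x i)) / Os k hdim σ hσ)
    fun i _ => JacVarLib.cls_point k hdim σ hσ hJ hj _).trans ?_
  rw [Finset.prod_div_distrib, Finset.prod_const, Finset.card_univ, Fintype.card_fin]

include hdim hσ hJ hj in
/-- The inverse image of the reflected theta divisor is the divisor with one section. -/
theorem comap_thetaSet_eq {n : ℕ} (hn : Curv2.genus k C = n + 1)
    (P : Fin (n + 1) → KP k (Over.mk (C ↘ Spec (CommRingCat.of k))))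
    (hinj : Function.Injective fun i => JacVarLib.pt k (P i))
    (hh : hz k (∏ i, JacVarLib.O k hdim (JacVarLib.pt k (P i))) = 1) :
    (Scheme.IdealSheafData.vanishingIdeal (thetaSet k j n (∏ i, P i ≫ j))).comap j.left =
      ⨅ i, ((P i).left : Spec (CommRingCat.of k) ⟶ C).ker := by
  classical
  let f := C ↘ Spec (CommRingCat.of k)
  let cp : ↥(Spec (CommRingCat.of k)) := IsLocalRing.closedPoint k
  haveI : Subsingleton ↥(Spec (CommRingCat.of k)) := inferInstanceAs (Subsingleton (PrimeSpectrum k))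
  haveI : Subsingleton ↥(𝟙_ (Over (Spec (CommRingCat.of k)))).left := inferInstanceAs (Subsingleton (PrimeSpectrum k))
  haveI : AlgebraicGeometry.IsReduced (𝟙_ (Over (Spec (CommRingCat.of k)))).left :=
    inferInstanceAs (AlgebraicGeometry.IsReduced (Spec (CommRingCat.of k)))
  obtain ⟨⟨r, hψ, hmul⟩, hJp, hJs, hJc, hJi, hJd⟩ := exists_rep_of_isJacobian hσ hdim hJ
  haveI := hJp; haveI := hJs; haveI := hJc; haveI := hJi
  haveI : IsIntegral J.left := H23.MaxAbelian.isIntegral_of_geometricallyIntegral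
  haveI : SmoothOfRelativeDimension (n + 1) J.hom :=
    SmoothCrit.smoothOfRelativeDimension_dim J.hom (n + 1) (by rw [hJd, hn])
  have hjv : ∀ (T : Over (Spec (CommRingCat.of k))) (x : T ⟶ Over.mk f), val0 (r.homEquiv (x ≫ j)) =
      rho f σ hσ (ptPc (GenusOneX.pt f σ hσ T) * (ptPc x)⁻¹) := fun T x => val0_abel r hψ hj x
  set a : KP k J := ∏ i, P i ≫ j with ha
  set D : Pc C := ∏ i, JacVarLib.O k hdim (JacVarLib.pt k (P i)) with hD
  have hclsa : cls k hdim hJ a = D / Os k hdim σ hσ ^ (n + 1) := cls_prod_points k hdim hσ hJ hj P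
  let S := thetaSet k j n a
  let VI := Scheme.IdealSheafData.vanishingIdeal S
  have hmemj : ∀ b : KP k (Over.mk f), img k (b ≫ j) ∈ (S : Set J.left) ↔
      ∃ i, JacVarLib.pt k (P i) = JacVarLib.pt k b := fun b => by
    rw [mem_thetaSet k hdim hσ hJ hj, hclsa, JacVarLib.cls_point k hdim σ hσ hJ hj,
      show D / Os k hdim σ hσ ^ (n + 1) / (JacVarLib.O k hdim (JacVarLib.pt k b) / Os k hdim σ hσ) *
          Os k hdim σ hσ ^ n = D / JacVarLib.O k hdim (JacVarLib.pt k b) by rw [pow_succ]; cgroup]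
    constructor
    · exact JacVarLib.mem_of_hz_eq_one k hdim _ hh _
    · rintro ⟨i, hi⟩
      refine JacVarLib.hz_pos_of_eff k hdim (n := n) ⟨fun l => JacVarLib.pt k (P (i.succAbove l)), ?_⟩
      rw [hD, Fin.prod_univ_succAbove _ i, hi, mul_div_cancel_left]
  refine le_antisymm (le_iInf fun i => ?_) ?_
  · rw [← Scheme.IdealSheafData.le_map_iff_comap_le, Scheme.IdealSheafData.map_ker]
    refine le_trans (Scheme.IdealSheafData.vanishingIdeal_antimono ?_) (Triage.SchDense.vanishingIdeal_le_ker _)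
    show closure (Set.range _) ⊆ (S : Set J.left)
    refine closure_minimal ?_ S.isClosed
    rintro _ ⟨t, rfl⟩
    rw [Subsingleton.elim t cp]
    exact (hmemj (P i)).2 ⟨i, rfl⟩
  let j0 : C ⟶ J.left := j.left
  change _ ≤ VI.comap j0
  set I := VI.comap j0 with hI
  let ι' := I.subschemeι
  let p : Fin (n + 1) → C := fun i => (JacVarLib.pt k (P i)).1
  have hsupp : ∀ z : I.subscheme, ∃ i, ι' z = p i := fun z => by
    haveI : JacobsonSpace C := LocallyOfFiniteType.jacobsonSpace f
    have hz' : ι' z ∈ j0.base ⁻¹' (S : Set J.left) := by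
      have h1 : ι' z ∈ (I.support : Set C) := by rw [← I.range_subschemeι]; exact ⟨z, rfl⟩
      rw [show I.support = _ from Scheme.IdealSheafData.support_comap VI j0] at h1
      have h2 : j.left (ι' z) ∈ ((VI.support : Closeds J.left) : Set J.left) := h1
      rw [Scheme.IdealSheafData.coe_support_vanishingIdeal] at h2
      exact h2
    have hfin : IsClosed (Set.range p) := by
      rw [← Set.iUnion_singleton_eq_range]
      exact isClosed_iUnion_of_finite fun i => (JacVarLib.pt k (P i)).2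
    have hsub : j0.base ⁻¹' (S : Set J.left) ⊆ Set.range p := by
      refine (closure_inter_closedPoints (S.isClosed.preimage j0.continuous)).symm.trans_subset ?_
      refine closure_minimal ?_ hfin
      rintro c ⟨hc, hcc⟩
      obtain ⟨b, hb⟩ := JacVarLib.exists_pt k (⟨c, hcc⟩ : JacVarLib.Pt C)
      have hcb : c = (b.left : Spec (CommRingCat.of k) ⟶ C) cp := (congrArg Subtype.val hb).symm
      obtain ⟨i, hi⟩ := (hmemj b).1 (show j0 ((b.left : Spec (CommRingCat.of k) ⟶ C) cp) ∈ (S : Set J.left) from hcb ▸ hc)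
      exact ⟨i, (congrArg Subtype.val (hi.trans hb))⟩
    obtain ⟨i, hi⟩ := hsub hz'
    exact ⟨i, hi.symm⟩
  let V : Fin (n + 1) → I.subscheme.Opens := fun i =>
    ⟨⋂ l, {z | l ≠ i → ι' z ≠ p l}, isOpen_iInter_of_finite fun l => by
      by_cases h : l = i
      · simp [h]
      · simp only [h, ne_eq, not_false_eq_true, forall_const]
        exact ((JacVarLib.pt k (P l)).2.isOpen_compl).preimage ι'.continuous⟩
  have hV : TopologicalSpace.IsOpenCover V := by
    rw [TopologicalSpace.IsOpenCover, eq_top_iff]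
    intro z _
    obtain ⟨i, hi⟩ := hsupp z
    exact Opens.mem_iSup.2 ⟨i, Set.mem_iInter.2 fun l hl he => hl (hinj (Subtype.ext (he.symm.trans hi)))⟩
  rw [← I.ker_subschemeι]
  refine le_trans (le_iInf fun i => le_trans (iInf_le _ i) ?_)
    (Scheme.Hom.iInf_ker_openCover_map_comp ι' (Scheme.openCoverOfIsOpenCover I.subscheme V hV)).le
  change ((P i).left : Spec (CommRingCat.of k) ⟶ C).ker ≤ ((V i).ι ≫ ι').ker
  suffices key : (V i).ι ≫ ι' = ((V i).ι ≫ ι' ≫ f) ≫ (P i).left by
    rw [key]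
    exact Scheme.Hom.le_ker_comp _ _
  -- the power of the curve
  obtain ⟨W, ρ, pr, hWp, -, -, hWs, hlift, hext⟩ :=
    Jacobian.exists_power f (𝟙_ (Over (Spec (CommRingCat.of k)))) (n + 1)
  have hW : ρ.left = W.hom := (Category.comp_id _).symm.trans (Over.w ρ)
  haveI : IsProper W.hom := hW ▸ hWp
  haveI : SmoothOfRelativeDimension (n + 1) W.hom := hW ▸ hWs
  have hext' : ∀ {T : Over (Spec (CommRingCat.of k))} (x y : T ⟶ W), (∀ i, x ≫ pr i = y ≫ pr i) → x = y :=
    fun {T} x y h => hext T x y (toUnit_unique _ _) h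
  obtain ⟨w₀, -, hw₀⟩ := hlift (𝟙_ _) (toUnit _) P
  let hm : W ⟶ J := ∏ l, pr l ≫ j
  let O : W.left.Opens := goodDistinct pr
  let Oi : W.left.Opens := O ⊓ ⟨⋂ l, {w | l ≠ i → (pr l).left w ≠ p i}, isOpen_iInter_of_finite fun l => by
    by_cases h : l = i
    · simp [h]
    · simp only [h, ne_eq, not_false_eq_true, forall_const]
      exact ((JacVarLib.pt k (P i)).2.isOpen_compl).preimage (pr l).left.continuous⟩
  have hP : ∀ t, Good (PicF.XTproj f (𝟙_ (Over (Spec (CommRingCat.of k))))) (divC P) t ∧ Distinct P t :=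
    fun t => ⟨(good_rat_iff k hdim hn P t).2 hh, distinct_rat k hinj t⟩
  have hw₀O : w₀.left cp ∈ Oi := by
    refine ⟨⟨?_, distinct_of_pull w₀ (by rw [funext hw₀]; exact (hP cp).2)⟩, Set.mem_iInter.2 fun l hl he => hl (hinj ?_)⟩
    · show Good (PicF.XTproj f W) (divC pr) _
      rw [← good_pull w₀, pull_divC, funext hw₀]
      exact (hP cp).1
    · refine Subtype.ext (Eq.trans ?_ he)
      show (P l).left cp = (pr l).left (w₀.left cp)
      rw [← Scheme.Hom.comp_apply, ← Over.comp_left, hw₀]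
  let s : KP k J := P i ≫ j
  let h' : W ⟶ J := hm ≫ refl k (a * s)
  let p' : Oi.toScheme ⟶ J.left := Oi.ι ≫ h'.left
  haveI hp' : Etale p' := by
    haveI := etale_sum r hmul hjv (g := n + 1) pr hext'
    have hle : Oi ≤ O := inf_le_left
    rw [show p' = (W.left.homOfLE hle ≫ O.ι ≫ hm.left) ≫ (refl k (a * s)).left by
      simp only [p', h', Over.comp_left, Category.assoc, Scheme.homOfLE_ι_assoc]]
    infer_instance
  -- tuples over the theta divisor have the point at the chosen place
  haveI : IsReduced VI.subscheme := H23.RedSub.isReduced_vanishingIdeal _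
  let T' := pullback VI.subschemeι p'
  haveI : Etale (pullback.fst VI.subschemeι p') := inferInstance
  haveI : Smooth (pullback.fst VI.subschemeι p') := inferInstance
  haveI : IsReduced T' := DescLib.isReduced_of_smooth_of_isReduced (pullback.fst VI.subschemeι p')
  let TW : Over (Spec (CommRingCat.of k)) := Over.mk ((pullback.snd VI.subschemeι p' ≫ Oi.ι) ≫ W.hom)
  let u : TW ⟶ W := Over.homMk (pullback.snd VI.subschemeι p' ≫ Oi.ι) rfl
  have hconst : u ≫ pr i = toUnit TW ≫ P i := by
    haveI : IsReduced TW.left := ‹IsReduced T'›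
    haveI : LocallyOfFiniteType TW.hom :=
      inferInstanceAs (LocallyOfFiniteType ((pullback.snd VI.subschemeι p' ≫ Oi.ι) ≫ W.hom))
    haveI : LocallyOfFiniteType ((u ≫ pr i).left ≫ f) := (Over.w (u ≫ pr i)).symm ▸ ‹LocallyOfFiniteType TW.hom›
    refine Over.OverMorphism.ext (ext_of_apply_eq f Set.univ isOpen_univ.isLocallyClosed dense_univ
      (fun z _ hzc => ?_) ((Over.w (u ≫ pr i)).trans (Over.w (toUnit TW ≫ P i)).symm))
    let b : KP k TW := Over.homMk (pointOfClosedPoint TW.hom z hzc) (pointOfClosedPoint_comp _ _ _)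
    have hbz : b.left cp = z := pointOfClosedPoint_apply TW.hom z hzc _
    let q : KP k W := b ≫ u
    let Q := fun l => q ≫ pr l
    have hqO : q.left cp ∈ Oi := by
      show Oi.ι (pullback.snd VI.subschemeι p' (b.left cp)) ∈ Oi
      exact (pullback.snd VI.subschemeι p' (b.left cp)).2
    have hQ1 : hz k (∏ l, JacVarLib.O k hdim (JacVarLib.pt k (Q l))) = 1 := by
      refine (good_rat_iff k hdim hn Q cp).1 ?_
      rw [show divC Q = pullPc _ (divC pr) from (pull_divC q pr).symm]
      exact (good_pull q _ cp).2 hqO.1.1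
    have hS : img k (q ≫ h') ∈ (S : Set J.left) := by
      have h1 : (pullback.fst VI.subschemeι p' ≫ VI.subschemeι) (b.left cp) ∈ (S : Set J.left) := by
        rw [← Scheme.IdealSheafData.coe_support_vanishingIdeal S, ← VI.range_subschemeι]
        exact ⟨_, rfl⟩
      rw [pullback.condition] at h1
      exact h1
    have hqh : q ≫ h' = (∏ l, Q l ≫ j)⁻¹ * (a * s) := by
      show q ≫ (hm ≫ refl k (a * s)) = _
      rw [← Category.assoc, comp_refl_gen, comp_prod, toUnit_unit, Category.id_comp]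
      simp only [Q, Category.assoc]
    rw [mem_thetaSet k hdim hσ hJ hj, hqh, JacVarLib.cls_mul, JacVarLib.cls_inv, JacVarLib.cls_mul,
      hclsa, cls_prod_points k hdim hσ hJ hj, JacVarLib.cls_point k hdim σ hσ hJ hj] at hS
    set E := ∏ l, JacVarLib.O k hdim (JacVarLib.pt k (Q l))
    rw [show D / Os k hdim σ hσ ^ (n + 1) / ((E / Os k hdim σ hσ ^ (n + 1))⁻¹ *
        (D / Os k hdim σ hσ ^ (n + 1) * (JacVarLib.O k hdim (JacVarLib.pt k (P i)) / Os k hdim σ hσ))) *
          Os k hdim σ hσ ^ n = E / JacVarLib.O k hdim (JacVarLib.pt k (P i)) by rw [pow_succ]; cgroup] at hS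
    obtain ⟨l, hl⟩ := JacVarLib.mem_of_hz_eq_one k hdim _ hQ1 _ hS
    have hl' : (pr l).left (q.left cp) = p i := congrArg Subtype.val hl
    have hli : l = i := by
      by_contra hne
      exact (Set.mem_iInter.1 hqO.2 l) hne hl'
    subst hli
    show (pr l).left (u.left z) = (P l).left _
    rw [← hbz]
    refine hl'.trans (congrArg (P l).left.base ?_)
    exact Subsingleton.elim _ _
  -- the descent
  let Vi := V i
  haveI : QuasiCompact ι' := inferInstance
  have hle : VI.subschemeι.ker ≤ (Vi.ι ≫ ι' ≫ j.left).ker := by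
    rw [VI.ker_subschemeι]
    refine le_trans ?_ (Scheme.Hom.le_ker_comp _ _)
    rw [← Scheme.IdealSheafData.map_ker, I.ker_subschemeι]
    exact Scheme.IdealSheafData.le_map_comap VI j0
  let qV := IsClosedImmersion.lift VI.subschemeι _ hle
  have hqV : qV ≫ VI.subschemeι = Vi.ι ≫ ι' ≫ j.left := IsClosedImmersion.lift_fac _ _ _
  let T'' := pullback (Vi.ι ≫ ι' ≫ j.left) p'
  let T3 : Over (Spec (CommRingCat.of k)) := Over.mk ((pullback.snd (Vi.ι ≫ ι' ≫ j.left) p' ≫ Oi.ι) ≫ W.hom)
  let tT : T3 ⟶ TW := Over.homMk (pullback.lift (pullback.fst _ p' ≫ qV) (pullback.snd _ p')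
    (by rw [Category.assoc, hqV, pullback.condition])) (by
      show pullback.lift _ _ _ ≫ (pullback.snd VI.subschemeι p' ≫ Oi.ι) ≫ W.hom = _
      simp only [Category.assoc, pullback.lift_snd_assoc]
      rfl)
  let u3 : T3 ⟶ W := tT ≫ u
  have hu3l : u3.left = pullback.snd (Vi.ι ≫ ι' ≫ j.left) p' ≫ Oi.ι := pullback.lift_snd_assoc _ _ _ _
  have hu3 : u3 ≫ pr i = toUnit T3 ≫ P i := by
    rw [Category.assoc, hconst, comp_toUnit_assoc]
  let x : T3 ⟶ Over.mk f := Over.homMk (pullback.fst (Vi.ι ≫ ι' ≫ j.left) p' ≫ Vi.ι ≫ ι') (by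
    show (pullback.fst _ p' ≫ Vi.ι ≫ ι') ≫ f = (pullback.snd _ p' ≫ Oi.ι) ≫ W.hom
    rw [show f = j.left ≫ J.hom from (Over.w j).symm, ← Over.w h']
    simpa only [p', Category.assoc] using congrArg (· ≫ J.hom) (pullback.condition (f := Vi.ι ≫ ι' ≫ j.left) (g := p')))
  have hxj : x ≫ j = u3 ≫ h' := Over.OverMorphism.ext (by
    show (pullback.fst _ p' ≫ Vi.ι ≫ ι') ≫ j.left = u3.left ≫ h'.left
    rw [hu3l, Category.assoc, Category.assoc, Category.assoc]
    exact pullback.condition)
  let A : Fin (n + 1) → (T3 ⟶ Over.mk f) := Function.update (fun l => u3 ≫ pr l) i x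
  let B : Fin (n + 1) → (T3 ⟶ Over.mk f) := fun l => toUnit T3 ≫ P l
  have hsum : ∏ l, B l ≫ j = ∏ l, A l ≫ j := by
    have hB : ∏ l, B l ≫ j = toUnit T3 ≫ a := by
      simp only [B, ha, comp_prod, Category.assoc]
    rw [hB, ← Finset.mul_prod_erase Finset.univ (fun l => A l ≫ j) (Finset.mem_univ i)]
    simp only [A, Function.update_self]
    rw [Finset.prod_congr rfl (g := fun l => (u3 ≫ pr l) ≫ j) fun l hl => by
      rw [Function.update_of_ne (Finset.ne_of_mem_erase hl)]]
    rw [hxj, show u3 ≫ h' = (∏ l, (u3 ≫ pr l) ≫ j)⁻¹ * (toUnit T3 ≫ (a * s)) by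
      show u3 ≫ (hm ≫ refl k (a * s)) = _
      rw [← Category.assoc, comp_refl_gen, comp_prod]
      simp only [Category.assoc]]
    rw [← Finset.mul_prod_erase Finset.univ (fun l => (u3 ≫ pr l) ≫ j) (Finset.mem_univ i), hu3, MonObj.comp_mul,
      mul_inv, Category.assoc]
    show _ = (toUnit T3 ≫ s)⁻¹ * _ * _ * _
    cgroup
  obtain ⟨m, hmm⟩ := exists_divC_eq r hmul hjv hsum
  have hBg : ∀ t, Good (PicF.XTproj f T3) (divC B) t ∧ Distinct B t := fun t => by
    refine ⟨?_, distinct_pull (toUnit T3) (hP _).2⟩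
    rw [show divC B = pullPc _ (divC P) from (pull_divC (toUnit T3) P).symm]
    exact (good_pull (toUnit T3) _ t).2 (hP _).1
  have hI' := divI_eq (fun t => (hBg t).1) hmm
  have hxP : x = toUnit T3 ≫ P i := by
    have hloc : ∀ t : T3.left, ∃ U : T3.left.Opens, t ∈ U ∧ U.ι ≫ x.left = U.ι ≫ (toUnit T3 ≫ P i).left := by
      intro t
      obtain ⟨l, U, ht, hU⟩ := exists_open_eq (hBg t).2 hI' i
      have e : U.ι ≫ x.left = U.ι ≫ (toUnit T3 ≫ P l).left := by
        have := congrArg (fun m => m ≫ pullback.fst f T3.hom) hU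
        simpa only [A, B, Function.update_self, Category.assoc, sct, pullback.lift_fst] using this
      refine ⟨U, ht, ?_⟩
      suffices hl : l = i by rw [e, hl]
      by_contra hne
      refine Set.mem_iInter.1 ((pullback.fst (Vi.ι ≫ ι' ≫ j.left) p' t).2) l hne ?_
      have h1 := congrArg (fun m => m.base (⟨t, ht⟩ : U)) e
      refine h1.trans ?_
      show (P l).left ((toUnit T3).left t) = p l
      rw [Subsingleton.elim ((toUnit T3).left t) cp]
      rfl
    choose U ht hU using hloc
    exact Over.OverMorphism.ext ((Scheme.openCoverOfIsOpenCover T3.left U (by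
      rw [TopologicalSpace.IsOpenCover, eq_top_iff]
      exact fun t _ => Opens.mem_iSup.2 ⟨t, ht t⟩)).hom_ext _ _ fun t => hU t)
  haveI : Etale (pullback.fst (Vi.ι ≫ ι' ≫ j.left) p') := inferInstance
  haveI : Surjective (pullback.fst (Vi.ι ≫ ι' ≫ j.left) p') := ⟨fun z => by
    obtain ⟨l, hl⟩ := hsupp (Vi.ι z)
    have hli : l = i := by
      by_contra hne
      exact Set.mem_iInter.1 z.2 l hne hl
    subst hli
    have hpt : w₀ ≫ h' = P l ≫ j := by
      show w₀ ≫ (hm ≫ refl k (a * s)) = _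
      rw [← Category.assoc, comp_refl_gen, comp_prod, toUnit_unit, Category.id_comp]
      rw [show ∏ m, w₀ ≫ pr m ≫ j = a from Finset.prod_congr rfl fun m _ => by rw [← Category.assoc, hw₀]]
      exact inv_mul_cancel_left a s
    obtain ⟨t, ht, -⟩ := Scheme.Pullback.exists_preimage_pullback (f := Vi.ι ≫ ι' ≫ j.left) (g := p') z ⟨_, hw₀O⟩ (by
      show j.left (ι' (Vi.ι z)) = h'.left (w₀.left cp)
      rw [hl, ← Scheme.Hom.comp_apply w₀.left, ← Over.comp_left, hpt]
      rfl)
    exact ⟨t, ht⟩⟩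
  haveI : Epi (pullback.fst (Vi.ι ≫ ι' ≫ j.left) p') := by
    haveI : Flat (pullback.fst (Vi.ι ≫ ι' ≫ j.left) p') := inferInstance
    haveI : LocallyOfFinitePresentation (pullback.fst (Vi.ι ≫ ι' ≫ j.left) p') := inferInstance
    infer_instance
  have h3 : x.left = T3.hom ≫ (P i).left := congrArg CommaMorphism.left hxP
  rw [← cancel_epi (pullback.fst (Vi.ι ≫ ι' ≫ j.left) p')]
  have h4 : (pullback.fst _ p' ≫ Vi.ι ≫ ι') ≫ f = T3.hom := Over.w x
  refine h3.trans ?_
  rw [← h4]
  simp only [Category.assoc]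
  rfl

end Groth.Agent.AlbCurve
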