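import Groth.Agent.AlbCurve.ThetaPull
import Groth.Agent.AlbCurve.Classes
import Groth.Agent.AlbCurve.ClosedImm
import Groth.Agent.BlowUpLib.Local
import Groth.Agent.EtDescX.RefineLib
import Groth.Agent.ModPairLib.Quot

/-!
# The translates of the theta divisor pulled back by the Abel map: classes
-/

set_option autoImplicit false
set_option maxHeartbeats 3200000
set_option linter.style.haveILetI false
set_option linter.unusedSectionVars false
set_option backward.isDefEq.respectTransparency false
set_option backward.isDefEq.respectTransparency.types false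

universe u

open CategoryTheory CategoryTheory.Limits AlgebraicGeometry TopologicalSpace Opposite MonoidalCategory
  CartesianMonoidalCategory MonObj

noncomputable section

namespace Groth.Agent.AlbCurve

open Groth.Agent Groth.Agent.PicRep
open Groth.Agent.JacVarLib (Pc pullPc pullPc_val pullPc_comp ext_val out cl_out isInvertible_out hz KP img refl sm cls Os q0)
open Groth.Agent.GenusOneX (sct sct_proj pt comp_pt)
open scoped Groth.Agent.H23.PicMul

attribute [local instance] Jacobian.curveOver GenusOneX.fibreOver GenusOneX.flat_of_family GenusOneX.lfp_of_family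

section Ideals

/-- An inverse of an invertible module is invertible, with the inverse class. -/
theorem inverse_data {X : Scheme.{u}} {L M : X.Modules} (hL : PicF.IsInvertible L) (h : ClSub.IsInverseOf L M) :
    PicF.IsInvertible M ∧ ((JacVarLib.mk L hL)⁻¹).1.val = PicF.cl M := by
  obtain ⟨e⟩ := h
  have h1 : PicF.cl L * PicF.cl M = 1 := by
    rw [← H23.PicMul.cl_tensor, H23.PicMul.one_def]; exact H23.PicMul.cl_eq_iff.2 ⟨e⟩
  have h2 : ((JacVarLib.mk L hL)⁻¹).1.val = PicF.cl M := by
    refine (H23.PicMul.isUnit_cl hL).mul_left_cancel (Eq.trans ?_ h1.symm)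
    rw [← JacVarLib.mk_val L hL, ← Units.val_mul, ← Subgroup.coe_mul, mul_inv_cancel]
    rfl
  obtain ⟨i⟩ : Nonempty (out (JacVarLib.mk L hL)⁻¹ ≅ M) := H23.PicMul.cl_eq_iff.1 ((cl_out _).trans h2)
  exact ⟨H23.PicMul.isInvertible_of_iso i (isInvertible_out _), h2⟩

theorem comap_vanishing {X Y : Scheme.{u}} (e : X ⟶ Y) [IsOpenImmersion e] (Z : Closeds Y) :
    (Scheme.IdealSheafData.vanishingIdeal Z).comap e =
      Scheme.IdealSheafData.vanishingIdeal (Closeds.preimage Z e.continuous) := by
  refine (EtDescX.comap_vanishingIdeal_radical Z e).symm.trans ?_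
  rw [← Scheme.IdealSheafData.vanishingIdeal_support, Scheme.IdealSheafData.support_comap]
  refine congrArg Scheme.IdealSheafData.vanishingIdeal (Closeds.ext ?_)
  show e.base ⁻¹' ((Scheme.IdealSheafData.vanishingIdeal Z).support : Set Y) = e.base ⁻¹' (Z : Set Y)
  rw [Scheme.IdealSheafData.coe_support_vanishingIdeal]

theorem prod_eq_inf {X : Scheme.{u}} {κ : Type*} [DecidableEq κ] (s : Finset κ) (I : κ → X.IdealSheafData)
    (h : ∀ i ∈ s, ∀ l ∈ s, i ≠ l → Disjoint ((I i).support : Set X) (I l).support) :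
    ∏ i ∈ s, I i = s.inf I := by
  induction s using Finset.induction_on with
  | empty => rw [Finset.prod_empty, Finset.inf_empty]; rfl
  | @insert b t hb ih =>
    have ht : ∀ i ∈ t, ∀ l ∈ t, i ≠ l → Disjoint ((I i).support : Set X) (I l).support := fun i hi l hl =>
      h i (Finset.mem_insert_of_mem hi) l (Finset.mem_insert_of_mem hl)
    have hd : ∀ u : Finset κ, u ⊆ t → Disjoint ((I b).support : Set X) ((∏ i ∈ u, I i).support : Set X) := by
      intro u
      induction u using Finset.induction_on with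
      | empty =>
        intro _
        rw [Finset.prod_empty]
        exact Set.disjoint_empty _
      | @insert c u hc ihu =>
        intro hu
        rw [Finset.prod_insert hc, Scheme.IdealSheafData.support_mul, Closeds.coe_sup, Set.disjoint_union_right]
        exact ⟨h b (Finset.mem_insert_self _ _) c (Finset.mem_insert_of_mem (hu (Finset.mem_insert_self _ _)))
          (fun e => hb (e ▸ hu (Finset.mem_insert_self _ _))), ihu ((Finset.subset_insert _ _).trans hu)⟩
    rw [Finset.prod_insert hb, Finset.inf_insert, ← ih ht]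
    refine ModPairLib.mul_eq_inf_of_sup_eq_top ((Scheme.IdealSheafData.support_eq_bot_iff _).1 ?_)
    rw [Scheme.IdealSheafData.support_sup]
    exact Closeds.ext (Set.disjoint_iff_inter_eq_empty.1 (hd t subset_rfl))

end Ideals

section Translate

variable {k : Type u} [Field k] {J : Over (Spec (CommRingCat.of k))} [GrpObj J] [IsCommMonObj J]

theorem transl_transl (a b : KP k J) : Jac.transl J a ≫ Jac.transl J b = Jac.transl J (a * b) := by
  rw [JacVarLib.kp_comp_transl, Jac.transl, Jac.transl, MonObj.comp_mul, _root_.mul_assoc]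

theorem transl_one : Jac.transl J (1 : KP k J) = 𝟙 J := by
  rw [Jac.transl, MonObj.comp_one, _root_.mul_one]

instance isIso_transl (a : KP k J) : IsIso (Jac.transl J a).left :=
  ⟨(Jac.transl J a⁻¹).left,
    congrArg CommaMorphism.left (show Jac.transl J a ≫ Jac.transl J a⁻¹ = 𝟙 J by
      rw [transl_transl, mul_inv_cancel, transl_one]),
    congrArg CommaMorphism.left (show Jac.transl J a⁻¹ ≫ Jac.transl J a = 𝟙 J by
      rw [transl_transl, inv_mul_cancel, transl_one])⟩

theorem refl_transl (a b : KP k J) : refl k a ≫ Jac.transl J b = refl k (a * b) := by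
  rw [Category.assoc, transl_transl]

/-- The group law in coordinates. -/
abbrev subMap {C : Over (Spec (CommRingCat.of k))} (j : C ⟶ J) : C ⊗ J ⟶ J := (fst C J ≫ j) * (snd C J)⁻¹

/-- `x, a ↦ j x / a` as a morphism of schemes. -/
def thetaMap {X : Scheme.{u}} {f : X ⟶ Spec (CommRingCat.of k)} (j : Over.mk f ⟶ J) : PicF.XT f J ⟶ J.left :=
  (subMap j).left

/-- `x ↦ j x / a` as a morphism of schemes. -/
def translMap {X : Scheme.{u}} {f : X ⟶ Spec (CommRingCat.of k)} (j : Over.mk f ⟶ J) (a : KP k J) : X ⟶ J.left :=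
  (j ≫ Jac.transl J a⁻¹).left

end Translate

variable (k : Type u) [Field k] [IsAlgClosed k] {C : Scheme.{u}} [C.Over (Spec (CommRingCat.of k))]
  [IsProper (C ↘ Spec (CommRingCat.of k))] [SmoothOfRelativeDimension 1 (C ↘ Spec (CommRingCat.of k))]
  [GeometricallyConnected (C ↘ Spec (CommRingCat.of k))] [Smooth (C ↘ Spec (CommRingCat.of k))] [IsIntegral C]
  (hdim : topologicalKrullDim C = 1)
  {σ : Spec (CommRingCat.of k) ⟶ C} {hσ : σ ≫ C ↘ Spec (CommRingCat.of k) = 𝟙 _}
  {J : Over (Spec (CommRingCat.of k))} [GrpObj J] [IsCommMonObj J]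
  {ψ : (ModFun.PicDeg (C ↘ Spec (CommRingCat.of k)) 0).Hom ⊤ J}
  (hJ : Jac.IsJacobian (C ↘ Spec (CommRingCat.of k)) ⊤ J ψ)
  {j : Over.mk (C ↘ Spec (CommRingCat.of k)) ⟶ J}
  (hj : Jac.IsAbelJacobiAt (C ↘ Spec (CommRingCat.of k)) σ ψ j)
  (r : (funct0 (C ↘ Spec (CommRingCat.of k)) σ hσ).RepresentableBy J)
  (hψ : ∀ (T : Over (Spec (CommRingCat.of k))) (E : (PicF.XT (C ↘ Spec (CommRingCat.of k)) T).Modules)
    (hT : (⊤ : ObjectProperty (Over (Spec (CommRingCat.of k)))) T)
    (h : (ModFun.PicDeg (C ↘ Spec (CommRingCat.of k)) 0).ok T E), ψ.app T E hT h = phi0 r T (PicF.cl E))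
  (hmul : ∀ (T : Over (Spec (CommRingCat.of k))) (a b : T ⟶ J),
    val0 (r.homEquiv (a * b)) = val0 (r.homEquiv a) * val0 (r.homEquiv b))

omit [IsAlgClosed k] in
theorem rho_point (v : Pc (PicF.XT (C ↘ Spec (CommRingCat.of k)) (𝟙_ (Over (Spec (CommRingCat.of k)))))) :
    rho (C ↘ Spec (CommRingCat.of k)) σ hσ v = v := by
  rw [rho, show pullPc (PicF.secT (C ↘ Spec (CommRingCat.of k)) σ hσ (𝟙_ (Over (Spec (CommRingCat.of k))))) v = 1 from
    pc_base_eq_one (Ω := k) _, map_one, inv_one, _root_.mul_one]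

include hdim in
theorem ptPc_base : ptPc (pt (C ↘ Spec (CommRingCat.of k)) σ hσ (𝟙_ (Over (Spec (CommRingCat.of k))))) =
    pullPc (q0 k) (Os k hdim σ hσ)⁻¹ := by
  rw [ptPc_rat k hdim]
  refine congrArg (fun b => pullPc (q0 k) (JacVarLib.O k hdim b)⁻¹) (congrArg (JacVarLib.pt k) ?_)
  exact Over.OverMorphism.ext (Category.id_comp σ)

include hψ hmul hj hdim in
/-- The class of a rational point of the Jacobian. -/
theorem val0_rat (a : KP k J) :
    val0 (r.homEquiv a) = pullPc (q0 k) (cls k hdim hJ a) := by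
  have hjv : ∀ (T : Over (Spec (CommRingCat.of k))) (x : T ⟶ Over.mk (C ↘ Spec (CommRingCat.of k))),
      val0 (r.homEquiv (x ≫ j)) = rho (C ↘ Spec (CommRingCat.of k)) σ hσ
        (ptPc (pt (C ↘ Spec (CommRingCat.of k)) σ hσ T) * (ptPc x)⁻¹) := fun T x => val0_abel r hψ hj x
  obtain ⟨P, hP⟩ : ∃ P : Fin (Curv2.genus k C) → KP k (Over.mk (C ↘ Spec (CommRingCat.of k))), ∏ i, P i ≫ j = a :=
    exists_sum_eq r hmul hjv hdim (𝟙 _) a
  subst hP
  refine (valHom_prod r hmul hjv P).trans ?_
  rw [rho_point, cls_prod_points k hdim hσ hJ hj, ptPc_base k hdim, divC_rat k hdim, ← map_pow, ← map_mul]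
  refine congrArg (pullPc (q0 k)) ?_
  rw [inv_pow, mul_comm, ← div_eq_mul_inv]

theorem XTmap_subMap (a : KP k J) :
    PicF.XTmap (C ↘ Spec (CommRingCat.of k)) a ≫ thetaMap j = q0 k ≫ translMap j a := by
  unfold thetaMap translMap
  let Cc : Over (Spec (CommRingCat.of k)) := Over.mk (C ↘ Spec (CommRingCat.of k))
  have e : PicF.XTmap (C ↘ Spec (CommRingCat.of k)) a = (Cc ◁ a).left := by
    refine pullback.hom_ext ?_ ?_
    · refine (pullback.lift_fst _ _ _).trans ?_
      exact (congrArg CommaMorphism.left (whiskerLeft_fst Cc a)).symm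
    · refine (pullback.lift_snd _ _ _).trans ?_
      exact (congrArg CommaMorphism.left (whiskerLeft_snd Cc a)).symm
  rw [e]
  refine congrArg CommaMorphism.left (?_ : (Cc ◁ a) ≫ subMap j = fst Cc (𝟙_ _) ≫ (j ≫ Jac.transl J a⁻¹))
  rw [MonObj.comp_mul, GrpObj.comp_inv, whiskerLeft_fst_assoc, whiskerLeft_snd, JacVarLib.kp_comp_transl,
    MonObj.comp_mul, comp_toUnit_assoc, toUnit_unique (toUnit (Cc ⊗ 𝟙_ _)) (snd Cc (𝟙_ _)), GrpObj.comp_inv]

include hψ hmul hJ hj hdim in
/-- Pulled back along the Abel map the translates of the reflected theta divisor form the universal family, twisted by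
the base point. -/
theorem theta_family {n : ℕ} (hn : Curv2.genus k C = n + 1) {L : Pc J.left}
    (hL : (L⁻¹).1.val = PicF.cl (ClSub.idealMod (Scheme.IdealSheafData.vanishingIdeal (thetaSet k j n 1))))
    (hL' : PicF.IsInvertible (ClSub.idealMod (Scheme.IdealSheafData.vanishingIdeal (thetaSet k j n 1)))) :
    ∃ m : Pc J.left, pullPc (thetaMap j) L =
      val0 (r.homEquiv (𝟙 J)) * (ptPc (pt (C ↘ Spec (CommRingCat.of k)) σ hσ J))⁻¹ ^ (n + 1) *
        pullPc (PicF.XTproj (C ↘ Spec (CommRingCat.of k)) J) m := by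
  classical
  let f := C ↘ Spec (CommRingCat.of k)
  obtain ⟨-, hJp, hJs, hJc, hJi, hJd⟩ := exists_rep_of_isJacobian hσ hdim hJ
  haveI := hJp; haveI := hJs; haveI := hJc; haveI := hJi
  haveI : IsIntegral J.left := H23.MaxAbelian.isIntegral_of_geometricallyIntegral
  haveI : SmoothOfRelativeDimension (n + 1) J.hom :=
    SmoothCrit.smoothOfRelativeDimension_dim J.hom (n + 1) (by rw [hJd, hn])
  have hjv : ∀ (T : Over (Spec (CommRingCat.of k))) (x : T ⟶ Over.mk f), val0 (r.homEquiv (x ≫ j)) =
      rho f σ hσ (ptPc (pt f σ hσ T) * (ptPc x)⁻¹) := fun T x => val0_abel r hψ hj x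
  let Φ : PicF.XT f J ⟶ J.left := thetaMap j
  let u₀ := val0 (r.homEquiv (𝟙 J))
  let w : Pc (PicF.XT f J) := pullPc Φ L * (u₀ * (ptPc (pt f σ hσ J))⁻¹ ^ (n + 1))⁻¹
  let cp : ↥(Spec (CommRingCat.of k)) := IsLocalRing.closedPoint k
  -- the value at a point
  have hw : ∀ a : KP k J, pullPc (PicF.XTmap f a) w =
      pullPc (q0 k) (pullPc (translMap j a) L / (cls k hdim hJ a * Os k hdim σ hσ ^ (n + 1))) := by
    intro a
    have e1 : pullPc (PicF.XTmap f a) u₀ = pullPc (q0 k) (cls k hdim hJ a) := by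
      rw [← val0_rat k hdim hJ hj r hψ hmul a, ← val0_map, ← r.homEquiv_comp, Category.comp_id]
    have e2 : pullPc (PicF.XTmap f a) (ptPc (pt f σ hσ J)) = pullPc (q0 k) (Os k hdim σ hσ)⁻¹ := by
      rw [pull_ptPc, comp_pt, ptPc_base k hdim]
    simp only [w, map_mul, map_inv, map_pow, map_div, e1, e2]
    rw [pullPc_comp (PicF.XTmap f a) Φ, XTmap_subMap k a, ← pullPc_comp]
    rw [inv_inv, ← div_eq_mul_inv]
  -- good sums
  have hgood : ∀ P : Fin (n + 1) → KP k (Over.mk f), Function.Injective (fun i => JacVarLib.pt k (P i)) →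
      hz k (∏ i, JacVarLib.O k hdim (JacVarLib.pt k (P i))) = 1 →
      pullPc (PicF.XTmap f (∏ i, P i ≫ j)) w = 1 := by
    intro P hinj hh
    rw [hw]
    set a := ∏ i, P i ≫ j
    have hcls : cls k hdim hJ a * Os k hdim σ hσ ^ (n + 1) = ∏ i, JacVarLib.O k hdim (JacVarLib.pt k (P i)) := by
      rw [cls_prod_points k hdim hσ hJ hj, div_mul_cancel]
    suffices h : pullPc (translMap j a) L = ∏ i, JacVarLib.O k hdim (JacVarLib.pt k (P i)) by
      rw [hcls, h, div_self', map_one]
    have hset : Closeds.preimage (thetaSet k j n (1 : KP k J)) (Jac.transl J a⁻¹).left.continuous = thetaSet k j n a := by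
      refine Closeds.ext ?_
      rw [Closeds.coe_preimage, coe_thetaSet, coe_thetaSet]
      have h1 : sm k j n ≫ refl k a ≫ Jac.transl J a⁻¹ = sm k j n ≫ refl k (1 : KP k J) := by
        rw [refl_transl, mul_inv_cancel]
      rw [← h1, ← Category.assoc, Over.comp_left, Scheme.Hom.comp_base, TopCat.coe_comp, Set.range_comp]
      exact Set.preimage_image_eq _ (Jac.transl J a⁻¹).left.isOpenEmbedding.injective
    have hker : ∀ i, ((P i).left : Spec (CommRingCat.of k) ⟶ C).ker.support = (⟨{(JacVarLib.pt k (P i)).1}, (JacVarLib.pt k (P i)).2⟩ : Closeds C) := by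
      intro i
      haveI : Subsingleton ↥(Spec (CommRingCat.of k)) := inferInstanceAs (Subsingleton (PrimeSpectrum k))
      haveI : IsClosedImmersion ((P i).left : Spec (CommRingCat.of k) ⟶ C) :=
        isClosedImmersion_of_comp_eq_id f _ (Over.w (P i))
      refine Closeds.ext ?_
      rw [Scheme.Hom.support_ker]
      show closure (Set.range _) = _
      rw [Set.range_eq_singleton_iff.2 fun t => congrArg ((P i).left : Spec (CommRingCat.of k) ⟶ C) (Subsingleton.elim t cp)]
      exact ((JacVarLib.pt k (P i)).2).closure_eq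
    have hI : ((Scheme.IdealSheafData.vanishingIdeal (thetaSet k j n (1 : KP k J))).comap (translMap j a) :
        C.IdealSheafData) = ∏ i, ((P i).left : Spec (CommRingCat.of k) ⟶ C).ker := by
      rw [translMap, Over.comp_left, Scheme.IdealSheafData.comap_comp, comap_vanishing, hset,
        comap_thetaSet_eq k hdim hσ hJ hj hn P hinj hh, prod_eq_inf _ _ (fun i _ l _ hil => ?_), Finset.inf_univ_eq_iInf]
      rw [hker, hker]
      exact Set.disjoint_singleton.2 fun e => hil (hinj (Subtype.ext e))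
    -- classes of products
    have hprod : ∀ s : Finset (Fin (n + 1)), s.Nonempty →
        PicF.IsInvertible (ClSub.idealMod (∏ i ∈ s, ((P i).left : Spec (CommRingCat.of k) ⟶ C).ker)) ∧
        PicF.cl (ClSub.idealMod (∏ i ∈ s, ((P i).left : Spec (CommRingCat.of k) ⟶ C).ker)) =
          (∏ i ∈ s, (JacVarLib.O k hdim (JacVarLib.pt k (P i)))⁻¹).1.val := by
      intro s hs
      induction hs using Finset.Nonempty.cons_induction with
      | singleton b =>
        rw [Finset.prod_singleton, Finset.prod_singleton]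
        exact ⟨GenusOneX.isInvertible_ker f (Over.w (P b)), JacVarLib.cl_ker k hdim (P b)⟩
      | cons b t hb ht ih =>
        rw [Finset.prod_cons, Finset.prod_cons]
        have hb' := GenusOneX.isInvertible_ker f (Over.w (P b))
        obtain ⟨e⟩ := DepthTwist.nonempty_idealMod_mul_iso ((P b).left : Spec (CommRingCat.of k) ⟶ C).ker
          (∏ i ∈ t, ((P i).left : Spec (CommRingCat.of k) ⟶ C).ker) hb'
        refine ⟨H23.PicMul.isInvertible_of_iso e (H23.PicMul.isInvertible_tensor hb' ih.1), ?_⟩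
        refine (H23.PicMul.cl_eq_iff.2 ⟨e⟩).symm.trans ((H23.PicMul.cl_tensor _ _).trans ?_)
        rw [ih.2, Subgroup.coe_mul, Units.val_mul, ← JacVarLib.cl_ker k hdim (P b)]
    obtain ⟨hinvp, hclp⟩ := hprod Finset.univ Finset.univ_nonempty
    obtain ⟨e⟩ := CurveAlgEqLib.nonempty_pullback_idealMod
      (translMap j a) hL' (hI ▸ hinvp)
    have hkey : (pullPc (translMap j a) L)⁻¹ = ∏ i, (JacVarLib.O k hdim (JacVarLib.pt k (P i)))⁻¹ := by
      rw [← map_inv]
      refine ext_val ?_
      rw [pullPc_val, hL, ← hclp]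
      exact H23.PicMul.cl_eq_iff.2 ⟨e ≪≫ eqToIso (by rw [hI])⟩
    rw [Finset.prod_inv_distrib, inv_inj] at hkey
    exact hkey
  -- the open set of sums of good tuples
  obtain ⟨W, ρ, pr, hWp, -, -, hWs, hlift, hext⟩ :=
    Jacobian.exists_power f (𝟙_ (Over (Spec (CommRingCat.of k)))) (n + 1)
  have hW : ρ.left = W.hom := (Category.comp_id _).symm.trans (Over.w ρ)
  haveI : IsProper W.hom := hW ▸ hWp
  haveI : SmoothOfRelativeDimension (n + 1) W.hom := hW ▸ hWs
  have hext' : ∀ {T : Over (Spec (CommRingCat.of k))} (x y : T ⟶ W), (∀ i, x ≫ pr i = y ≫ pr i) → x = y :=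
    fun {T} x y h => hext T x y (toUnit_unique _ _) h
  let O : W.left.Opens := goodDistinct pr
  let hm : W ⟶ J := ∏ i, pr i ≫ j
  let p : O.toScheme ⟶ J.left := O.ι ≫ hm.left
  haveI hpet : Etale p := etale_sum r hmul hjv (g := n + 1) pr hext'
  haveI : Smooth p := inferInstance
  let U : J.left.Opens := ⟨Set.range p, p.isOpenMap.isOpen_range⟩
  have hUne : (U : Set J.left).Nonempty := by
    haveI : IsIntegral C := ‹IsIntegral C›
    obtain ⟨x₀, hx₀⟩ := JacVarLib.exists_pt_mem k (U := (Set.univ : Set C)) isOpen_univ ⟨genericPoint C, trivial⟩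
    obtain ⟨P, -, hPi, hP1⟩ := exists_completion k hdim (by rw [hn]; omega) x₀ n (by rw [hn]; omega)
    choose Q hQ using fun i => JacVarLib.exists_pt k (P i)
    obtain ⟨q, -, hq⟩ := hlift (𝟙_ _) (toUnit _) Q
    have hQi : Function.Injective fun i => JacVarLib.pt k (Q i) := by simpa only [hQ] using hPi
    refine ⟨_, ⟨⟨q.left cp, ⟨?_, distinct_of_pull q (by rw [funext hq]; exact distinct_rat k hQi cp)⟩⟩, rfl⟩⟩
    show Good (PicF.XTproj f W) (divC pr) _
    rw [← good_pull q, pull_divC, funext hq]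
    exact (good_rat_iff k hdim hn Q cp).2 (by simp only [hQ]; exact hP1)
  have hUpts : ∀ a : KP k J, img k a ∈ U → pullPc (PicF.XTmap f a) w = 1 := by
    intro a hmem
    haveI : JacobsonSpace O.toScheme := LocallyOfFiniteType.jacobsonSpace (O.ι ≫ W.hom)
    have hac : IsClosed ({img k a} : Set J.left) := by
      let pa : Spec (CommRingCat.of k) ⟶ J.left := a.left
      haveI : IsClosedImmersion pa := isClosedImmersion_of_comp_eq_id J.hom pa (Over.w a)
      haveI : Subsingleton ↥(Spec (CommRingCat.of k)) := inferInstanceAs (Subsingleton (PrimeSpectrum k))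
      have := pa.isClosedEmbedding.isClosed_range
      rwa [Set.range_eq_singleton_iff.2 fun q => congrArg pa (Subsingleton.elim q cp)] at this
    obtain ⟨z₀, hz₀⟩ := hmem
    obtain ⟨z, hzm, hzc⟩ := nonempty_inter_closedPoints (Z := p.base ⁻¹' {img k a}) ⟨z₀, hz₀⟩
      (hac.preimage p.continuous).isLocallyClosed
    let T₀ : Over (Spec (CommRingCat.of k)) := Over.mk (O.ι ≫ W.hom)
    haveI : LocallyOfFiniteType T₀.hom := inferInstanceAs (LocallyOfFiniteType (O.ι ≫ W.hom))
    let b : KP k T₀ := Over.homMk (pointOfClosedPoint T₀.hom z hzc) (pointOfClosedPoint_comp _ _ _)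
    have hb : b.left cp = z := pointOfClosedPoint_apply T₀.hom z hzc _
    let q : KP k W := b ≫ (Over.homMk O.ι rfl : T₀ ⟶ W)
    let Q := fun i => q ≫ pr i
    have hqz : q.left cp = O.ι z := by rw [← hb]; rfl
    have hqh : q ≫ hm = a := by
      refine JacVarLib.img_injective k ?_
      show hm.left (q.left cp) = _
      rw [hqz]
      exact hzm
    have hd : Distinct Q cp := distinct_pull q (by rw [hqz]; exact z.2.2)
    have hQi : Function.Injective fun i => JacVarLib.pt k (Q i) := by
      intro i l he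
      by_contra hne
      refine hd i l hne ?_
      rw [show Q i = Q l from JacVarLib.pt_injective k he]
      exact ⟨cp, rfl⟩
    have hQ1 : hz k (∏ i, JacVarLib.O k hdim (JacVarLib.pt k (Q i))) = 1 := by
      refine (good_rat_iff k hdim hn Q cp).1 ?_
      rw [show divC Q = pullPc _ (divC pr) from (pull_divC q pr).symm]
      exact (good_pull q _ cp).2 (by rw [hqz]; exact z.2.1)
    have := hgood Q hQi hQ1
    rwa [show ∏ i, Q i ≫ j = a by rw [← hqh]; simp only [hm, Q, comp_prod, Category.assoc]] at this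
  -- the twisted family is trivial
  haveI : JacobsonSpace J.left := LocallyOfFiniteType.jacobsonSpace J.hom
  obtain ⟨z₁, hz₁, hz₁c⟩ := nonempty_inter_closedPoints hUne U.isOpen.isLocallyClosed
  let a₁ : KP k J := Over.homMk (pointOfClosedPoint J.hom z₁ hz₁c) (pointOfClosedPoint_comp _ _ _)
  have ha₁ : img k a₁ ∈ U := by
    show (pointOfClosedPoint J.hom z₁ hz₁c) cp ∈ U
    rw [pointOfClosedPoint_apply]; exact hz₁
  have hwPZ : w ∈ PZ f J := mem_PZ_of_point a₁ cp (by rw [hUpts a₁ ha₁]; exact (PZ f _).one_mem)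
  obtain ⟨δ, hδ⟩ := exists_val0_eq r (rho_mem_RZ (hσ := hσ) hwPZ)
  have hδa : ∀ a : KP k J, val0 (r.homEquiv (a ≫ δ)) = pullPc (PicF.XTmap f a) w := fun a => by
    rw [r.homEquiv_comp, val0_map, hδ, pull_rho, rho_point]
  have hδ1 : δ = 1 := by
    haveI : LocallyOfFiniteType (δ.left ≫ J.hom) := by rw [Over.w δ]; infer_instance
    refine Over.OverMorphism.ext (ext_of_apply_eq J.hom (U : Set J.left) U.isOpen.isLocallyClosed
      (U.isOpen.dense hUne) (fun z hz hzc => ?_) ((Over.w δ).trans (Over.w (1 : J ⟶ J)).symm))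
    let a : KP k J := Over.homMk (pointOfClosedPoint J.hom z hzc) (pointOfClosedPoint_comp _ _ _)
    have hz' : img k a = z := pointOfClosedPoint_apply J.hom z hzc _
    have h1 : a ≫ δ = a ≫ (1 : J ⟶ J) := by
      rw [MonObj.comp_one]
      refine valHom_injective r hmul _ ?_
      show val0 (r.homEquiv (a ≫ δ)) = valHom r hmul _ 1
      rw [map_one, hδa, hUpts a (by rw [hz']; exact hz)]
    rw [← hz']
    exact congrArg (fun x : KP k J => img k x) h1
  have hrw : rho f σ hσ w = 1 := by
    rw [← hδ, hδ1]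
    exact map_one (valHom r hmul J)
  obtain ⟨m, hm'⟩ := rho_eq_iff.1 (hrw.trans (map_one (rhoHom f σ hσ J)).symm)
  refine ⟨m, ?_⟩
  rw [_root_.one_mul] at hm'
  calc pullPc Φ L = w * (u₀ * (ptPc (pt f σ hσ J))⁻¹ ^ (n + 1)) := (inv_mul_cancel_right _ _).symm
    _ = _ := by rw [hm', mul_comm]

include hψ hmul hJ hj hdim in
/-- Pulled back along the Abel map a translate of the reflected theta divisor gives the class of the point. -/
theorem theta_point {n : ℕ} (hn : Curv2.genus k C = n + 1) {L : Pc J.left}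
    (hL : (L⁻¹).1.val = PicF.cl (ClSub.idealMod (Scheme.IdealSheafData.vanishingIdeal (thetaSet k j n 1))))
    (hL' : PicF.IsInvertible (ClSub.idealMod (Scheme.IdealSheafData.vanishingIdeal (thetaSet k j n 1))))
    (a : KP k J) :
    pullPc (translMap j a) L = cls k hdim hJ a * Os k hdim σ hσ ^ (n + 1) := by
  obtain ⟨m, hm⟩ := theta_family k hdim hJ hj r hψ hmul hn hL hL'
  have h := congrArg (pullPc (PicF.XTmap (C ↘ Spec (CommRingCat.of k)) a)) hm
  rw [pullPc_comp, XTmap_subMap k a, ← pullPc_comp, map_mul, map_mul, map_pow, map_inv, pull_ptPc, comp_pt,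
    ptPc_base k hdim, ← val0_map, ← r.homEquiv_comp, Category.comp_id, val0_rat k hdim hJ hj r hψ hmul a,
    pullPc_comp _ (PicF.XTproj (C ↘ Spec (CommRingCat.of k)) J), LineDesc.Rig.XTmap_snd, ← pullPc_comp _ a.left, pc_base_eq_one (Ω := k) (pullPc a.left m), map_one, _root_.mul_one,
    ← map_inv, inv_inv, ← map_pow, ← map_mul] at h
  have h2 := congrArg (pullPc (JacVarLib.i0 k)) h
  rwa [pullPc_comp _ (q0 k), pullPc_comp _ (q0 k), JacVarLib.i0_q0, pullPc_id, pullPc_id] at h2

theorem thetaSet_preimage (n : ℕ) (a b : KP k J) :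
    Closeds.preimage (thetaSet k j n (a * b)) (Jac.transl J b).left.continuous = thetaSet k j n a := by
  refine Closeds.ext ?_
  rw [Closeds.coe_preimage, coe_thetaSet, coe_thetaSet, ← refl_transl, ← Category.assoc, Over.comp_left,
    Scheme.Hom.comp_base, TopCat.coe_comp, Set.range_comp]
  exact Set.preimage_image_eq _ (Jac.transl J b).left.isOpenEmbedding.injective

/-- The class of the reflected theta divisor from an inverse of a translate. -/
theorem theta_data {n : ℕ} (a : KP k J) {La : J.left.Modules} (hLa : PicF.IsInvertible La)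
    (h : ClSub.IsInverseOf La (ClSub.idealMod (Scheme.IdealSheafData.vanishingIdeal (thetaSet k j n a)))) :
    ((pullPc (Jac.transl J a).left (JacVarLib.mk La hLa))⁻¹).1.val =
        PicF.cl (ClSub.idealMod (Scheme.IdealSheafData.vanishingIdeal (thetaSet k j n 1))) ∧
      PicF.IsInvertible (ClSub.idealMod (Scheme.IdealSheafData.vanishingIdeal (thetaSet k j n 1))) := by
  obtain ⟨hi, hv⟩ := inverse_data hLa h
  have hc : (Scheme.IdealSheafData.vanishingIdeal (thetaSet k j n a)).comap (Jac.transl J a).left =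
      Scheme.IdealSheafData.vanishingIdeal (thetaSet k j n 1) := by
    rw [comap_vanishing]
    refine congrArg Scheme.IdealSheafData.vanishingIdeal ?_
    have := thetaSet_preimage k (j := j) n 1 a
    rwa [_root_.one_mul] at this
  have hi' : PicF.IsInvertible (ClSub.idealMod ((Scheme.IdealSheafData.vanishingIdeal (thetaSet k j n a)).comap
      (Jac.transl J a).left)) :=
    (S8914.result _).2 (BlowUpLib.isEffCartier_comap_flat _ ((S8914.result _).1 hi))
  obtain ⟨e⟩ := CurveAlgEqLib.nonempty_pullback_idealMod (Jac.transl J a).left hi hi'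
  refine ⟨?_, hc ▸ hi'⟩
  rw [← map_inv, pullPc_val, hv]
  exact H23.PicMul.cl_eq_iff.2 ⟨e ≪≫ eqToIso (by rw [hc])⟩

theorem translMap_transl (a : KP k J) : translMap j a ≫ (Jac.transl J a).left = j.left := by
  rw [translMap, ← Over.comp_left, Category.assoc, transl_transl, inv_mul_cancel, transl_one, Category.comp_id]

end Groth.Agent.AlbCurve
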